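import Groth.Agent.Etdl.H427.SecCalc

/-!
# The conditions (Var 2), (Var 3), (Var 4) on sections

Section-level forms of the compatibilities of the trace. The functors `f⁻¹` are kept abstract
so that the kernel does not unfold sheafification.
-/

set_option autoImplicit false
universe u
open CategoryTheory CategoryTheory.Limits AlgebraicGeometry Opposite

namespace Groth.Agent.Etdl.H427.AbsVar

theorem ab_hom_ext {X : Scheme.{u}} {F G : EtCoh.Ab X} {a b : F ⟶ G}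
    (h : ∀ (U : X.Etale) (s : EtCoh.sect F U), a.hom.app (op U) s = b.hom.app (op U) s) : a = b := by
  apply Sheaf.hom_ext
  ext U s
  exact h U.unop s

variable {X S X' S' : Scheme.{u}}

/-- evaluation of a natural transformation `f_* P ⟶ 𝟭` on sections -/
noncomputable def ev (f : X ⟶ S) (Pf : EtCoh.Ab S ⥤ EtCoh.Ab X)
    (T : Pf ⋙ EtCoh.push f ⟶ 𝟭 (EtCoh.Ab S)) (F : EtCoh.Ab S) (V : S.Etale) :
    EtCoh.sect (Pf.obj F) ((EtCoh.bc f).obj V) →+ EtCoh.sect F V :=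
  ((T.app F).hom.app (op V)).hom

theorem ev_res (f : X ⟶ S) (Pf : EtCoh.Ab S ⥤ EtCoh.Ab X)
    (T : Pf ⋙ EtCoh.push f ⟶ 𝟭 (EtCoh.Ab S)) (F : EtCoh.Ab S) {V V' : S.Etale} (g : V' ⟶ V)
    (t : EtCoh.sect (Pf.obj F) ((EtCoh.bc f).obj V)) :
    F.obj.map g.op (ev f Pf T F V t) =
      ev f Pf T F V' ((Pf.obj F).obj.map ((EtCoh.bc f).map g).op t) :=
  (ConcreteCategory.congr_hom ((T.app F).hom.naturality g.op) t).symm

theorem ext_ev (f : X ⟶ S) (Pf : EtCoh.Ab S ⥤ EtCoh.Ab X)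
    (T T' : Pf ⋙ EtCoh.push f ⟶ 𝟭 (EtCoh.Ab S))
    (h : ∀ (F : EtCoh.Ab S) (V : S.Etale) (t : EtCoh.sect (Pf.obj F) ((EtCoh.bc f).obj V)),
      ev f Pf T F V t = ev f Pf T' F V t) : T = T' := by
  apply NatTrans.ext
  funext F
  exact ab_hom_ext (fun V t => h F V t)

section Var2

variable (f : X ⟶ S) (g : S' ⟶ S) (f' : X' ⟶ S')
  (Pf : EtCoh.Ab S ⥤ EtCoh.Ab X) (Pg : EtCoh.Ab S ⥤ EtCoh.Ab S')
  (Pf' : EtCoh.Ab S' ⥤ EtCoh.Ab X') (Pg' : EtCoh.Ab X ⥤ EtCoh.Ab X')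
  (Pgf Pfg : EtCoh.Ab S ⥤ EtCoh.Ab X')
  (α : Pgf ≅ Pf ⋙ Pg') (β : Pgf ≅ Pfg) (γ : Pfg ≅ Pg ⋙ Pf') (adj : Pg ⊣ EtCoh.push g)
  (T : Pf ⋙ EtCoh.push f ⟶ 𝟭 (EtCoh.Ab S)) (T' : Pf' ⋙ EtCoh.push f' ⟶ 𝟭 (EtCoh.Ab S'))
  (F : EtCoh.Ab S)
  (b : Pg.obj ((EtCoh.push f).obj (Pf.obj F)) ⟶ (EtCoh.push f').obj (Pg'.obj (Pf.obj F)))

theorem var2_of_sections
    (un : ∀ (K : EtCoh.Ab S) (V : S.Etale),
      EtCoh.sect K V →+ EtCoh.sect (Pg.obj K) ((EtCoh.bc g).obj V))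
    (hun : ∀ (K : EtCoh.Ab S) (V : S.Etale), un K V = ((adj.unit.app K).hom.app (op V)).hom)
    (P : ∀ V : S.Etale, EtCoh.sect (Pf.obj F) ((EtCoh.bc f).obj V) → Prop)
    (hext : ∀ (G : EtCoh.Ab S) (a b : (EtCoh.push f).obj (Pf.obj F) ⟶ G),
      (∀ (V : S.Etale) (t : EtCoh.sect (Pf.obj F) ((EtCoh.bc f).obj V)), P V t →
        a.hom.app (op V) t = b.hom.app (op V) t) → a = b)
    (cm : ∀ (U : X'.Etale), EtCoh.sect (Pg'.obj (Pf.obj F)) U →+ EtCoh.sect (Pf'.obj (Pg.obj F)) U)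
    (hcm : ∀ U, cm U = SecCalc.absCmp Pf Pg' Pgf Pfg Pg Pf' α β γ F U)
    (h : ∀ (V : S.Etale) (t : EtCoh.sect (Pf.obj F) ((EtCoh.bc f).obj V)), P V t →
      ev f' Pf' T' (Pg.obj F) ((EtCoh.bc g).obj V)
        (cm ((EtCoh.bc f').obj ((EtCoh.bc g).obj V))
          (b.hom.app (op ((EtCoh.bc g).obj V)) (un ((EtCoh.push f).obj (Pf.obj F)) V t))) =
      un F V (ev f Pf T F V t)) :
    b ≫ (EtCoh.push f').map (α.inv.app F ≫ β.hom.app F ≫ γ.hom.app F) ≫ T'.app (Pg.obj F) =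
      Pg.map (T.app F) := by
  obtain rfl : un = fun (K : EtCoh.Ab S) (V : S.Etale) => ((adj.unit.app K).hom.app (op V)).hom := by
    funext K V
    exact hun K V
  obtain rfl : cm = fun U => SecCalc.absCmp Pf Pg' Pgf Pfg Pg Pf' α β γ F U := by
    funext U
    exact hcm U
  apply (adj.homEquiv _ _).injective
  rw [Adjunction.homEquiv_unit, Adjunction.homEquiv_unit]
  apply hext
  intro V t ht
  have h1 := h V t ht
  have h2 : (adj.unit.app ((EtCoh.push f).obj (Pf.obj F)) ≫ (EtCoh.push g).map (Pg.map (T.app F))) =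
      T.app F ≫ adj.unit.app F := (adj.unit.naturality (T.app F)).symm
  have h3 := congrArg (fun k => k.hom.app (op V) t) h2
  exact h1.trans h3.symm

theorem sections_of_var2
    (cm : ∀ (U : X'.Etale), EtCoh.sect (Pg'.obj (Pf.obj F)) U →+ EtCoh.sect (Pf'.obj (Pg.obj F)) U)
    (hcm : ∀ U, cm U = SecCalc.absCmp Pf Pg' Pgf Pfg Pg Pf' α β γ F U)
    (h : b ≫ (EtCoh.push f').map (α.inv.app F ≫ β.hom.app F ≫ γ.hom.app F) ≫ T'.app (Pg.obj F) =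
      Pg.map (T.app F)) (W : S'.Etale)
    (x : EtCoh.sect (Pg.obj ((EtCoh.push f).obj (Pf.obj F))) W) :
    ev f' Pf' T' (Pg.obj F) W (cm ((EtCoh.bc f').obj W) (b.hom.app (op W) x)) =
      (Pg.map (T.app F)).hom.app (op W) x := by
  rw [hcm]
  exact congrArg (fun k => k.hom.app (op W) x) h

end Var2

section Var3

variable {Y : Scheme.{u}} (h : X ⟶ Y) (g : Y ⟶ S)
  (Ph : EtCoh.Ab Y ⥤ EtCoh.Ab X) (Pg : EtCoh.Ab S ⥤ EtCoh.Ab Y) (Phg : EtCoh.Ab S ⥤ EtCoh.Ab X)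
  (α : Phg ≅ Pg ⋙ Ph)
  (Th : Ph ⋙ EtCoh.push h ⟶ 𝟭 (EtCoh.Ab Y)) (Tg : Pg ⋙ EtCoh.push g ⟶ 𝟭 (EtCoh.Ab S))
  (Thg : Phg ⋙ EtCoh.push (h ≫ g) ⟶ 𝟭 (EtCoh.Ab S)) (F : EtCoh.Ab S)

/-- the abstract composition isomorphism on sections -/
noncomputable def absComp (U : X.Etale) :
    EtCoh.sect (Phg.obj F) U →+ EtCoh.sect (Ph.obj (Pg.obj F)) U :=
  ((α.hom.app F).hom.app (op U)).hom

theorem absComp_res {U U' : X.Etale} (k : U' ⟶ U) (x : EtCoh.sect (Phg.obj F) U) :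
    (Ph.obj (Pg.obj F)).obj.map k.op (absComp Ph Pg Phg α F U x) =
      absComp Ph Pg Phg α F U' ((Phg.obj F).obj.map k.op x) :=
  (ConcreteCategory.congr_hom ((α.hom.app F).hom.naturality k.op) x).symm

theorem absComp_eq (U : X.Etale) (x : EtCoh.sect (Phg.obj F) U)
    (y : EtCoh.sect (Ph.obj (Pg.obj F)) U) (h : (α.hom.app F).hom.app (op U) x = y) :
    absComp Ph Pg Phg α F U x = y := h

theorem var3_of_sections
    (P : ∀ V : S.Etale, EtCoh.sect (Phg.obj F) ((EtCoh.bc (h ≫ g)).obj V) → Prop)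
    (hext : ∀ (G : EtCoh.Ab S) (a b : (EtCoh.push (h ≫ g)).obj (Phg.obj F) ⟶ G),
      (∀ (V : S.Etale) (t : EtCoh.sect (Phg.obj F) ((EtCoh.bc (h ≫ g)).obj V)), P V t →
        a.hom.app (op V) t = b.hom.app (op V) t) → a = b)
    (ca : ∀ (U : X.Etale), EtCoh.sect (Phg.obj F) U →+ EtCoh.sect (Ph.obj (Pg.obj F)) U)
    (hca : ∀ U, ca U = absComp Ph Pg Phg α F U)
    (pc : ∀ (V : S.Etale), EtCoh.sect (Ph.obj (Pg.obj F)) ((EtCoh.bc (h ≫ g)).obj V) →+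
      EtCoh.sect (Ph.obj (Pg.obj F)) ((EtCoh.bc h).obj ((EtCoh.bc g).obj V)))
    (hpc : ∀ V, pc V =
      (((EtCoh.pushComp g h).inv.app (Ph.obj (Pg.obj F))).hom.app (op V)).hom)
    (H : ∀ (V : S.Etale) (t : EtCoh.sect (Phg.obj F) ((EtCoh.bc (h ≫ g)).obj V)), P V t →
      ev (h ≫ g) Phg Thg F V t = ev g Pg Tg F V (ev h Ph Th (Pg.obj F) ((EtCoh.bc g).obj V)
        (pc V (ca ((EtCoh.bc (h ≫ g)).obj V) t)))) :
    Thg.app F = (EtCoh.push (h ≫ g)).map (α.hom.app F) ≫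
      (EtCoh.pushComp g h).inv.app (Ph.obj (Pg.obj F)) ≫
      (EtCoh.push g).map (Th.app (Pg.obj F)) ≫ Tg.app F := by
  refine hext F (Thg.app F) ((EtCoh.push (h ≫ g)).map (α.hom.app F) ≫
      (EtCoh.pushComp g h).inv.app (Ph.obj (Pg.obj F)) ≫
      (EtCoh.push g).map (Th.app (Pg.obj F)) ≫ Tg.app F) (fun V t ht => ?_)
  have h1 := H V t ht
  rw [hca, hpc] at h1
  exact h1

theorem sections_of_var3
    (ca : ∀ (U : X.Etale), EtCoh.sect (Phg.obj F) U →+ EtCoh.sect (Ph.obj (Pg.obj F)) U)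
    (hca : ∀ U, ca U = absComp Ph Pg Phg α F U)
    (pc : ∀ (V : S.Etale), EtCoh.sect (Ph.obj (Pg.obj F)) ((EtCoh.bc (h ≫ g)).obj V) →+
      EtCoh.sect (Ph.obj (Pg.obj F)) ((EtCoh.bc h).obj ((EtCoh.bc g).obj V)))
    (hpc : ∀ V, pc V =
      (((EtCoh.pushComp g h).inv.app (Ph.obj (Pg.obj F))).hom.app (op V)).hom)
    (H : Thg.app F = (EtCoh.push (h ≫ g)).map (α.hom.app F) ≫
      (EtCoh.pushComp g h).inv.app (Ph.obj (Pg.obj F)) ≫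
      (EtCoh.push g).map (Th.app (Pg.obj F)) ≫ Tg.app F)
    (V : S.Etale) (t : EtCoh.sect (Phg.obj F) ((EtCoh.bc (h ≫ g)).obj V)) :
      ev (h ≫ g) Phg Thg F V t = ev g Pg Tg F V (ev h Ph Th (Pg.obj F) ((EtCoh.bc g).obj V)
        (pc V (ca ((EtCoh.bc (h ≫ g)).obj V) t))) := by
  rw [hca, hpc]
  exact congrArg (fun k => k.hom.app (op V) t) H

end Var3

section Var4

variable (f : X ⟶ S) (Pf : EtCoh.Ab S ⥤ EtCoh.Ab X) (adj : Pf ⊣ EtCoh.push f)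
  (T : Pf ⋙ EtCoh.push f ⟶ 𝟭 (EtCoh.Ab S)) (F : EtCoh.Ab S) (n : ℕ)

theorem sections_of_var4
    (un : ∀ (K : EtCoh.Ab S) (V : S.Etale),
      EtCoh.sect K V →+ EtCoh.sect (Pf.obj K) ((EtCoh.bc f).obj V))
    (hun : ∀ (K : EtCoh.Ab S) (V : S.Etale), un K V = ((adj.unit.app K).hom.app (op V)).hom)
    (H : adj.unit.app F ≫ T.app F = n • 𝟙 F) (V : S.Etale)
    (m : EtCoh.sect F V) : ev f Pf T F V (un F V m) = n • m := by
  rw [hun]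
  have h1 := congrArg (fun k => k.hom.app (op V) m) H
  refine h1.trans ?_
  have h2 : ((n • 𝟙 F : F ⟶ F)).hom = n • (𝟙 F.obj) := rfl
  change (n • 𝟙 F : F ⟶ F).hom.app (op V) m = n • m
  rw [h2]
  rfl

end Var4

end Groth.Agent.Etdl.H427.AbsVar
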