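import Groth.Agent.Sga4B.ClopenRank
import Mathlib.RingTheory.LocalRing.Module
import Mathlib.RingTheory.Artinian.Module
import Mathlib.AlgebraicGeometry.ResidueField

/-!
# Multiplicativity of the rank of finite flat morphisms
-/

set_option autoImplicit false
universe u

open CategoryTheory CategoryTheory.Limits AlgebraicGeometry

namespace Groth.Agent.Etdl.H427.RankComp

open Groth.Agent.Sga4B.ClopenRank

theorem finrank_eq_mul {k B C : Type u} [Field k] [CommRing B] [CommRing C] [Algebra k B]
    [Algebra k C] [Algebra B C] [IsScalarTower k B C] [Module.Finite k B] [Module.Finite B C]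
    [Module.Flat B C] (n : ℕ) (h : ∀ p : PrimeSpectrum B, Module.rankAtStalk (R := B) C p = n) :
    Module.finrank k C = n * Module.finrank k B := by
  have : IsArtinianRing B := IsArtinianRing.of_finite k B
  obtain ⟨b⟩ := Module.nonempty_basis_of_flat_of_finrank_eq B C n (fun P => by
    let := Ideal.Quotient.field P.1
    have h1 := Module.rankAtStalk_baseChange (R := B) (M := C) (S := B ⧸ P.1) (⊥ : PrimeSpectrum _)
    rw [h, Module.rankAtStalk_eq_finrank_of_free] at h1
    exact h1)
  have e : C ≃ₗ[k] (Fin n → B) := b.equivFun.restrictScalars k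
  rw [e.finrank_eq, Module.finrank_pi_fintype]
  simp

theorem finrank_comp_field (k : Type u) [Field k] {Z Y : Scheme.{u}} (a : Z ⟶ Y)
    (b : Y ⟶ Spec (.of k)) [IsFinite a] [Flat a] [IsFinite b] [Flat b] (n : ℕ)
    (hn : ∀ y, a.finrank y = n) (v : Spec (CommRingCat.of k)) :
    (a ≫ b).finrank v = n * b.finrank v := by
  wlog hY : ∃ B, Y = Spec B
  · have _ : IsAffine Y := isAffine_of_isAffineHom b
    have h1 := this k (a ≫ Y.isoSpec.hom) (Y.isoSpec.inv ≫ b) n (fun y => by
      have sq : IsPullback (𝟙 Z) (a ≫ Y.isoSpec.hom) a Y.isoSpec.inv :=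
        IsPullback.of_horiz_isIso ⟨by simp⟩
      rw [Scheme.Hom.finrank_of_isPullback _ _ _ _ sq, hn]) v ⟨_, rfl⟩
    rw [Scheme.Hom.finrank_comp_left_of_isIso Y.isoSpec.inv b] at h1
    rw [← h1]
    congr 1
    simp
  obtain ⟨B, rfl⟩ := hY
  wlog hZ : ∃ C, Z = Spec C
  · have _ : IsAffine Z := isAffine_of_isAffineHom a
    have h1 := this k n v B (Z.isoSpec.inv ≫ a) b (fun y => by
      rw [Scheme.Hom.finrank_comp_left_of_isIso, hn]) ⟨_, rfl⟩
    rw [← h1, Category.assoc]
    exact (congrFun (Scheme.Hom.finrank_comp_left_of_isIso Z.isoSpec.inv (a ≫ b)) v).symm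
  obtain ⟨C, rfl⟩ := hZ
  obtain ⟨φ, rfl⟩ := Spec.map_surjective a
  obtain ⟨ψ, rfl⟩ := Spec.map_surjective b
  algebraize [φ.hom, ψ.hom, φ.hom.comp ψ.hom]
  have f1 : Module.Finite k B := (IsFinite.SpecMap_iff ψ).1 inferInstance
  have f2 : Module.Finite B C := (IsFinite.SpecMap_iff φ).1 inferInstance
  have g2 : Module.Flat B C := (Flat.SpecMap_iff).1 (inferInstance : Flat (Spec.map φ))
  have f3 : Module.Finite k C := Module.Finite.trans B C
  rw [← Spec.map_comp]
  have e1 : (Spec.map ψ).finrank v = Module.finrank k B := by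
    have := Scheme.Hom.finrank_SpecMap_algebraMap k B v
    rw [Module.rankAtStalk_eq_finrank_of_free] at this
    exact this
  have e2 : (Spec.map (ψ ≫ φ)).finrank v = Module.finrank k C := by
    have := Scheme.Hom.finrank_SpecMap_algebraMap k C v
    rw [Module.rankAtStalk_eq_finrank_of_free] at this
    exact this
  rw [e1, e2]
  apply finrank_eq_mul
  intro p
  rw [← hn p]
  exact (Scheme.Hom.finrank_SpecMap_algebraMap B C p).symm

/-- The rank is multiplicative in compositions if the first rank is constant. -/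
theorem finrank_comp {Z Y V : Scheme.{u}} (a : Z ⟶ Y) (b : Y ⟶ V) [IsFinite a] [Flat a]
    [IsFinite b] [Flat b] (n : ℕ) (hn : ∀ y, a.finrank y = n) (v : V) :
    (a ≫ b).finrank v = n * b.finrank v := by
  let i := V.fromSpecResidueField v
  obtain ⟨x⟩ : Nonempty (Spec (V.residueField v)) := inferInstance
  have hx : i x = v := Scheme.fromSpecResidueField_apply _ _
  have sq1 : IsPullback (pullback.fst b i) (pullback.snd b i) b i := IsPullback.of_hasPullback b i
  have sq2 : IsPullback (pullback.fst a (pullback.fst b i)) (pullback.snd a (pullback.fst b i)) a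
    (pullback.fst b i) := IsPullback.of_hasPullback _ _
  have sq3 := sq2.paste_vert sq1
  have h1 := Scheme.Hom.finrank_of_isPullback _ _ _ _ sq1 x
  have h3 := Scheme.Hom.finrank_of_isPullback _ _ _ _ sq3 x
  rw [hx] at h1 h3
  rw [← h1, ← h3]
  exact finrank_comp_field (V.residueField v) (pullback.snd a (pullback.fst b i))
    (pullback.snd b i) n (fun y => by rw [Scheme.Hom.finrank_pullback_snd, hn]) x

variable {ι κ : Type u}

/-- The rank of the piece of colour `i` under a composition. -/
theorem rk_comp {Z Y V : Scheme.{u}} (a : Z ⟶ Y) (b : Y ⟶ V) [IsFinite a] [Flat a]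
    [IsFinite b] [Flat b] (c : Z → ι) (hc : IsLocallyConstant c) (i : ι) [Fintype κ]
    (d : Y → κ) (hd : IsLocallyConstant d) (ρ : κ → ℕ)
    (hρ : ∀ y, rk a c hc i y = ρ (d y)) (v : V) :
    rk (a ≫ b) c hc i v = ∑ k, ρ k * rk b d hd k v := by
  let a' : (piece c hc i : Scheme.{u}) ⟶ Y := (piece c hc i).ι ≫ a
  let e : ↥(piece c hc i : Scheme.{u}) → κ := fun z => d (a' z)
  have he : IsLocallyConstant e := hd.comp_continuous a'.continuous
  have h0 : rk (a ≫ b) c hc i v = (a' ≫ b).finrank v := by
    rw [rk, Category.assoc]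
  rw [h0, finrank_eq_sum_rk (a' ≫ b) e he v]
  refine Finset.sum_congr rfl fun k _ => ?_
  -- the piece over `k`
  have hp : piece e he k = a' ⁻¹ᵁ (piece d hd k) := rfl
  have h1 : rk (a' ≫ b) e he k v = ((a' ∣_ (piece d hd k)) ≫ (piece d hd k).ι ≫ b).finrank v := by
    rw [rk, hp, ← morphismRestrict_ι_assoc]
  rw [h1]
  apply finrank_comp
  intro y
  have sq := isPullback_morphismRestrict a' (piece d hd k)
  rw [Scheme.Hom.finrank_of_isPullback _ _ _ _ sq.flip]
  have h2 : d ((piece d hd k).ι y) = k := y.2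
  exact (hρ _).trans (congrArg ρ h2)

end Groth.Agent.Etdl.H427.RankComp
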