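import Groth.Agent.Etdl.H427.TraceEval

/-!
# The trace relation and base change
-/

set_option autoImplicit false
universe u
open CategoryTheory CategoryTheory.Limits AlgebraicGeometry Opposite

namespace Groth.Agent.Etdl.H427.RelBC

open Groth.Agent.Sga4B.EtUnit Groth.Agent.Sga4B.UnitInj Groth.Agent.Sga4B.TraceRel
open Groth.Agent.Sga4B.ClopenRank Groth.Agent.Sga4B.TraceMap
open Groth.Agent.Etcore.IntBC
open SecCalc AbsVar TraceEval

variable {X S X' S' : Scheme.{u}}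

section

variable {f : X ⟶ S} {g : S' ⟶ S} {f' : X' ⟶ S'} {g' : X' ⟶ X}

/-- the base change of a section of `f⁻¹ F` along a morphism `q : W → V` over `g`. -/
noncomputable def bcSec (w : g' ≫ f = f' ≫ g) (F : EtCoh.Ab S) {V : S.Etale} {W : S'.Etale}
    (q : W.left ⟶ V.left) (hq : q ≫ V.hom = W.hom ≫ g)
    (t : EtCoh.sect ((EtCoh.pull f).obj F) ((EtCoh.bc f).obj V)) :
    EtCoh.sect ((EtCoh.pull f').obj ((EtCoh.pull g).obj F)) ((EtCoh.bc f').obj W) :=
  cmpS w F ((EtCoh.bc f').obj W)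
    (psq g' ((EtCoh.pull f).obj F) (V := (EtCoh.bc f).obj V) (W := (EtCoh.bc f').obj W)
      (bcSq f g f' g' w q hq) (bcSq_hom f g f' g' w q hq) t)

theorem bcSec_res (w : g' ≫ f = f' ≫ g) {F : EtCoh.Ab S} {V : S.Etale} {W : S'.Etale}
    (q : W.left ⟶ V.left) (hq : q ≫ V.hom = W.hom ≫ g)
    (t : EtCoh.sect ((EtCoh.pull f).obj F) ((EtCoh.bc f).obj V)) (m : EtCoh.sect F V)
    {U : X'.Etale} (k : U ⟶ (EtCoh.bc f').obj W)
    (O : ((EtCoh.bc f).obj V).left.Opens)
    (hO : ∀ u : U.left, (k.left ≫ bcSq f g f' g' w q hq) u ∈ O)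
    (h : ((EtCoh.pull f).obj F).obj.map (openMap ((EtCoh.bc f).obj V) O).op t =
      ((EtCoh.pull f).obj F).obj.map (openMap ((EtCoh.bc f).obj V) O).op (usec f F V m))
    (hq2 : (k.left ≫ pr f' W) ≫ W.hom = U.hom ≫ f') :
    ((EtCoh.pull f').obj ((EtCoh.pull g).obj F)).obj.map k.op (bcSec w F q hq t) =
      psq f' ((EtCoh.pull g).obj F) (k.left ≫ pr f' W) hq2 (psq g F q hq m) := by
  have hq1 : (k.left ≫ bcSq f g f' g' w q hq) ≫ ((EtCoh.bc f).obj V).hom = U.hom ≫ g' := by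
    have h1 : k.left ≫ ((EtCoh.bc f').obj W).hom = U.hom := Over.w k.hom
    rw [Category.assoc, bcSq_hom, ← Category.assoc, h1]
  have e1 := cmpS_res w F k (psq g' ((EtCoh.pull f).obj F) (V := (EtCoh.bc f).obj V)
    (W := (EtCoh.bc f').obj W) (bcSq f g f' g' w q hq) (bcSq_hom f g f' g' w q hq) t)
  have e2 := psq_precomp g' ((EtCoh.pull f).obj F) (V := (EtCoh.bc f).obj V)
    (W := (EtCoh.bc f').obj W) (bcSq f g f' g' w q hq) (bcSq_hom f g f' g' w q hq) k _ hq1 rfl t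
  have e3 := psq_congr_open g' ((EtCoh.pull f).obj F) (V := (EtCoh.bc f).obj V) _ hq1
      O hO t (usec f F V m) h
  have e4 : psq g' ((EtCoh.pull f).obj F) (V := (EtCoh.bc f).obj V) _ hq1 (usec f F V m) =
    psq g' ((EtCoh.pull f).obj F) (V := (EtCoh.bc f).obj V) _ hq1
      (psq f F (pr f V) (pr_hom f V) m) := congrArg _ (psq_pr f F V m).symm
  have e5 := cmpS_psq w F (pr f V) (pr_hom f V) (k.left ≫ bcSq f g f' g' w q hq) hq1
    q hq (k.left ≫ pr f' W) hq2 (by rw [Category.assoc, bcSq_pr, Category.assoc]) m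
  exact e1.trans ((congrArg (cmpS w F U) (e2.trans (e3.trans e4))).trans e5)

theorem split_baseChange (w : g' ≫ f = f' ≫ g) {F : EtCoh.Ab S} {V : S.Etale} {W : S'.Etale}
    (q : W.left ⟶ V.left) (hq : q ≫ V.hom = W.hom ≫ g)
    {t : EtCoh.sect ((EtCoh.pull f).obj F) ((EtCoh.bc f).obj V)}
    {ι : Type u} {c : ((EtCoh.bc f).obj V).left → ι} (hc : IsLocallyConstant c)
    {m : ι → EtCoh.sect F V} (h : Split f F V t c m) :
    Split f' ((EtCoh.pull g).obj F) W (bcSec w F q hq t)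
      (fun y => c (bcSq f g f' g' w q hq y)) (fun i => psq g F q hq (m i)) := by
  intro i U k hk
  have h1 : k.left ≫ ((EtCoh.bc f').obj W).hom = U.hom := Over.w k.hom
  have hq2 : (k.left ≫ pr f' W) ≫ W.hom = U.hom ≫ f' := by
    rw [Category.assoc, pr_hom, ← Category.assoc, h1]
  have e1 : ((EtCoh.pull f').obj ((EtCoh.pull g).obj F)).obj.map k.op
      (usec f' ((EtCoh.pull g).obj F) W (psq g F q hq (m i))) =
      psq f' ((EtCoh.pull g).obj F) (k.left ≫ pr f' W) hq2 (psq g F q hq (m i)) :=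
    map_usec f' ((EtCoh.pull g).obj F) W k _ hq2 rfl _
  have e2 := bcSec_res w q hq t (m i) k (piece c hc i) (fun y => hk y)
    (h i (openObj ((EtCoh.bc f).obj V) (piece c hc i)) (openMap _ _) (fun u => u.2)) hq2
  exact e2.trans e1.symm

variable [IsFinite f] [Flat f] [LocallyOfFinitePresentation f]
  [IsFinite f'] [Flat f'] [LocallyOfFinitePresentation f']

theorem rk_bcSq (hc : IsPullback g' f' f g) {V : S.Etale} {W : S'.Etale}
    (q : W.left ⟶ V.left) (hq : q ≫ V.hom = W.hom ≫ g)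
    {ι : Type u} {c : ((EtCoh.bc f).obj V).left → ι} (hcl : IsLocallyConstant c)
    (hcl' : IsLocallyConstant (fun y => c (bcSq f g f' g' hc.w q hq y))) (i : ι) (v : W.left) :
    rk (pr f' W) (fun y => c (bcSq f g f' g' hc.w q hq y)) hcl' i v =
      rk (pr f V) c hcl i (q v) :=
  rk_baseChange (isPullback_bcSq f g f' g' hc q hq) c hcl _ hcl' (fun _ => rfl) i v

theorem isSum_baseChange (hc : IsPullback g' f' f g) {F : EtCoh.Ab S} {V : S.Etale} {W : S'.Etale}
    (q : W.left ⟶ V.left) (hq : q ≫ V.hom = W.hom ≫ g) {τ : EtCoh.sect F V}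
    {ι : Type u} [Fintype ι] {c : ((EtCoh.bc f).obj V).left → ι} {hcl : IsLocallyConstant c}
    (hcl' : IsLocallyConstant (fun y => c (bcSq f g f' g' hc.w q hq y)))
    {m : ι → EtCoh.sect F V} (h : IsSum f F V τ c hcl m) :
    IsSum f' ((EtCoh.pull g).obj F) W (psq g F q hq τ)
      (fun y => c (bcSq f g f' g' hc.w q hq y)) hcl' (fun i => psq g F q hq (m i)) := by
  intro V' k r hne hr
  have hr' : ∀ i (v : V'.left), rk (pr f V) c hcl i (q (k.left v)) = r i := by
    intro i v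
    rw [← rk_bcSq hc q hq hcl hcl', hr]
  have hopen : IsOpen {v : V.left | ∀ i, rk (pr f V) c hcl i v = r i} := by
    rw [Set.ofPred_forall]
    exact isOpen_iInter_of_finite (fun i => (isLocallyConstant_rk (pr f V) c hcl i).isOpen_fiber _)
  let O : V.left.Opens := ⟨_, hopen⟩
  have hO : ∀ v : V'.left, (k.left ≫ q) v ∈ O := fun v i => hr' i v
  obtain ⟨v0⟩ := hne
  have h1 := h (openObj V O) (openMap V O) r ⟨⟨_, hO v0⟩⟩ (fun i v => v.2 i)
  have hkq : (k.left ≫ q) ≫ V.hom = V'.hom ≫ g := by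
    rw [Category.assoc, hq, ← Category.assoc]
    congr 1
    exact Over.w k.hom
  rw [psq_precomp g F q hq k _ hkq rfl]
  have h2 : ∀ i, ((EtCoh.pull g).obj F).obj.map k.op (psq g F q hq (m i)) =
      psq g F (k.left ≫ q) hkq (m i) := fun i => psq_precomp g F q hq k _ hkq rfl _
  simp only [h2]
  rw [psq_congr_open g F (k.left ≫ q) hkq O hO τ (∑ i, r i • m i) (by
    rw [h1, map_sum]
    exact Finset.sum_congr rfl fun i _ => (map_nsmul _ _ _).symm), map_sum]
  exact Finset.sum_congr rfl fun i _ => map_nsmul _ _ _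

theorem rel_baseChange (hc : IsPullback g' f' f g) {F : EtCoh.Ab S} {V : S.Etale} {W : S'.Etale}
    (q : W.left ⟶ V.left) (hq : q ≫ V.hom = W.hom ≫ g)
    {t : EtCoh.sect ((EtCoh.pull f).obj F) ((EtCoh.bc f).obj V)} {τ : EtCoh.sect F V}
    (h : Rel f F V t τ) :
    Rel f' ((EtCoh.pull g).obj F) W (bcSec hc.w F q hq t) (psq g F q hq τ) := by
  obtain ⟨ι, _, c, hcl, m, h1, h2⟩ := h
  have hcl' : IsLocallyConstant (fun y => c (bcSq f g f' g' hc.w q hq y)) :=
    hcl.comp_continuous (bcSq f g f' g' hc.w q hq).continuous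
  exact ⟨ι, inferInstance, _, hcl', _, split_baseChange hc.w q hq hcl h1,
    isSum_baseChange hc q hq hcl' h2⟩

end

theorem evt_baseChange (f : X ⟶ S) (g : S' ⟶ S) (f' : X' ⟶ S') (g' : X' ⟶ X)
    (hc : IsPullback g' f' f g)
    [IsFinite f] [Flat f] [LocallyOfFinitePresentation f]
    [IsFinite f'] [Flat f'] [LocallyOfFinitePresentation f'] (F : EtCoh.Ab S) (V : S.Etale)
    (t : EtCoh.sect ((EtCoh.pull f).obj F) ((EtCoh.bc f).obj V))
    (ht : ∃ τ, Rel f F V t τ) :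
    evt f' ((EtCoh.pull g).obj F) ((EtCoh.bc g).obj V)
      (cmpS hc.w F ((EtCoh.bc f').obj ((EtCoh.bc g).obj V))
        ((EtCoh.baseChange0 f g f' g' hc.w ((EtCoh.pull f).obj F)).hom.app
          (op ((EtCoh.bc g).obj V)) (usec g ((EtCoh.push f).obj ((EtCoh.pull f).obj F)) V t))) =
      usec g F V (evt f F V t) := by
  obtain ⟨τ, hr⟩ := ht
  have h1 := rel_baseChange (f' := f') hc (pr g V) (pr_hom g V) hr
  have h2 := evt_eq_of_rel f' h1
  have h3 := evt_eq_of_rel f hr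
  have h6 := psq_pr g ((EtCoh.push f).obj ((EtCoh.pull f).obj F)) V t
  have h7 := baseChange0_psq f g f' g' hc.w ((EtCoh.pull f).obj F) (pr g V) (pr_hom g V) t
  have h4 : (EtCoh.baseChange0 f g f' g' hc.w ((EtCoh.pull f).obj F)).hom.app
      (op ((EtCoh.bc g).obj V)) (usec g ((EtCoh.push f).obj ((EtCoh.pull f).obj F)) V t) =
      psq g' ((EtCoh.pull f).obj F) (V := (EtCoh.bc f).obj V)
        (W := (EtCoh.bc f').obj ((EtCoh.bc g).obj V))
        (bcSq f g f' g' hc.w (pr g V) (pr_hom g V)) (bcSq_hom f g f' g' hc.w _ _) t :=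
    (congrArg _ h6.symm).trans h7
  have h5 : psq g F (pr g V) (pr_hom g V) τ = usec g F V (evt f F V t) :=
    (psq_pr g F V τ).trans (congrArg (usec g F V) h3.symm)
  refine Eq.trans ?_ (h2.trans h5)
  exact congrArg (fun x => evt f' ((EtCoh.pull g).obj F) ((EtCoh.bc g).obj V)
    (cmpS hc.w F ((EtCoh.bc f').obj ((EtCoh.bc g).obj V)) x)) h4

/-- (Var 2) for the trace. -/
theorem var2 (f : X ⟶ S) (g : S' ⟶ S) (f' : X' ⟶ S') (g' : X' ⟶ X)
    (hc : IsPullback g' f' f g)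
    [IsFinite f] [Flat f] [LocallyOfFinitePresentation f]
    [IsFinite f'] [Flat f'] [LocallyOfFinitePresentation f'] (F : EtCoh.Ab S) :
    EtCoh.baseChange0 f g f' g' hc.w ((EtCoh.pull f).obj F) ≫
      (EtCoh.push f').map ((EtCore.pullComp g' f).inv.app F ≫ (EtCore.pullCongr hc.w).hom.app F ≫
        (EtCore.pullComp f' g).hom.app F) ≫ (tr f').app ((EtCoh.pull g).obj F) =
      (EtCoh.pull g).map ((tr f).app F) :=
  var2_of_sections f g f' (EtCoh.pull f) (EtCoh.pull g) (EtCoh.pull f') (EtCoh.pull g')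
    (EtCoh.pull (g' ≫ f)) (EtCoh.pull (f' ≫ g)) (EtCore.pullComp g' f) (EtCore.pullCongr hc.w)
    (EtCore.pullComp f' g) (EtCoh.pullPushAdj g) (tr f) (tr f') F
    (EtCoh.baseChange0 f g f' g' hc.w ((EtCoh.pull f).obj F)) (usec g) (fun _ _ => rfl)
    (fun V t => ∃ τ, Rel f F V t τ)
    (fun G a b h => ext_rel f (fun V t τ hr => h V t ⟨τ, hr⟩)) (cmpS hc.w F) (cmpS_eq hc.w F)
    (fun V t ht => evt_baseChange f g f' g' hc F V t ht)

end Groth.Agent.Etdl.H427.RelBC
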