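import Groth.Agent.Etdl.H427.RelBC

/-!
# The trace and composition
-/

set_option autoImplicit false
universe u
set_option linter.unusedSectionVars false
open CategoryTheory CategoryTheory.Limits AlgebraicGeometry Opposite

namespace Groth.Agent.Etdl.H427.RelComp

open Groth.Agent.Sga4B.EtUnit Groth.Agent.Sga4B.UnitInj Groth.Agent.Sga4B.TraceRel
open Groth.Agent.Sga4B.ClopenRank Groth.Agent.Sga4B.TraceMap
open Groth.Agent.Etcore.IntBC Groth.Agent.Etcore.SecPull
open SecCalc AbsVar TraceEval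

variable {X Y S : Scheme.{u}}

section

variable (h : X ⟶ Y) (g : Y ⟶ S)

/-- the composition isomorphism `(h ≫ g)⁻¹ F ⟶ h⁻¹ g⁻¹ F` on sections -/
noncomputable def compS (F : EtCoh.Ab S) (U : X.Etale) :
    EtCoh.sect ((EtCoh.pull (h ≫ g)).obj F) U →+
      EtCoh.sect ((EtCoh.pull h).obj ((EtCoh.pull g).obj F)) U :=
  absComp (EtCoh.pull h) (EtCoh.pull g) (EtCoh.pull (h ≫ g)) (EtCore.pullComp h g) F U

theorem compS_eq (F : EtCoh.Ab S) (U : X.Etale) :
    compS h g F U =
      absComp (EtCoh.pull h) (EtCoh.pull g) (EtCoh.pull (h ≫ g)) (EtCore.pullComp h g) F U := rfl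

theorem compS_res (F : EtCoh.Ab S) {U U' : X.Etale} (k : U' ⟶ U)
    (x : EtCoh.sect ((EtCoh.pull (h ≫ g)).obj F) U) :
    ((EtCoh.pull h).obj ((EtCoh.pull g).obj F)).obj.map k.op (compS h g F U x) =
      compS h g F U' (((EtCoh.pull (h ≫ g)).obj F).obj.map k.op x) :=
  (congrArg (((EtCoh.pull h).obj ((EtCoh.pull g).obj F)).obj.map k.op)
    (DFunLike.congr_fun (compS_eq h g F U) x)).trans
  ((absComp_res (EtCoh.pull h) (EtCoh.pull g) (EtCoh.pull (h ≫ g)) (EtCore.pullComp h g) F k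
    x).trans (DFunLike.congr_fun (compS_eq h g F U') _).symm)

theorem compS_psq (F : EtCoh.Ab S)
    {V : S.Etale} {W : Y.Etale} {W' : X.Etale}
    (q : W.left ⟶ V.left) (hq : q ≫ V.hom = W.hom ≫ g)
    (q' : W'.left ⟶ W.left) (hq' : q' ≫ W.hom = W'.hom ≫ h)
    (hqq' : (q' ≫ q) ≫ V.hom = W'.hom ≫ h ≫ g) (m : EtCoh.sect F V) :
    compS h g F W' (psq (h ≫ g) F (q' ≫ q) hqq' m) =
      psq h ((EtCoh.pull g).obj F) q' hq' (psq g F q hq m) :=
  (DFunLike.congr_fun (compS_eq h g F W') _).trans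
    (absComp_eq (EtCoh.pull h) (EtCoh.pull g) (EtCoh.pull (h ≫ g)) (EtCore.pullComp h g) F W'
      _ _ (hom_psq h g F q hq q' hq' hqq' m))

/-- transport along `(V ×_S Y) ×_Y X ≅ V ×_S X` -/
noncomputable def pcS (K : EtCoh.Ab X) (V : S.Etale) :
    EtCoh.sect K ((EtCoh.bc (h ≫ g)).obj V) →+
      EtCoh.sect K ((EtCoh.bc h).obj ((EtCoh.bc g).obj V)) :=
  (K.obj.map ((bcComp h g).hom.app V).op).hom

theorem pcS_eq (K : EtCoh.Ab X) (V : S.Etale) :
    pcS h g K V = (((EtCoh.pushComp g h).inv.app K).hom.app (op V)).hom := by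
  rw [pushComp_inv_app]
  rfl

theorem pcS_apply (K : EtCoh.Ab X) (V : S.Etale) (x : EtCoh.sect K ((EtCoh.bc (h ≫ g)).obj V)) :
    pcS h g K V x = K.obj.map ((bcComp h g).hom.app V).op x := rfl

/-- the morphism `(V ×_S Y) ×_Y X ⟶ V ×_S X` -/
noncomputable def compL (V : S.Etale) :
    ((EtCoh.bc h).obj ((EtCoh.bc g).obj V)).left ⟶ ((EtCoh.bc (h ≫ g)).obj V).left :=
  ((bcComp h g).hom.app V).left

theorem compL_pr (V : S.Etale) :
    compL h g V ≫ pr (h ≫ g) V = pr h ((EtCoh.bc g).obj V) ≫ pr g V :=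
  bcComp_hom_left h g V

instance (V : S.Etale) : IsIso (compL h g V) :=
  inferInstanceAs (IsIso ((Scheme.Etale.forget X ⋙ Over.forget X).map ((bcComp h g).hom.app V)))

theorem isPullback_compL (V : S.Etale) :
    IsPullback (compL h g V) (pr h ((EtCoh.bc g).obj V) ≫ pr g V) (pr (h ≫ g) V) (𝟙 V.left) :=
  IsPullback.of_horiz_isIso ⟨by rw [Category.comp_id, compL_pr]⟩

theorem split_comp {F : EtCoh.Ab S} {V : S.Etale}
    {t : EtCoh.sect ((EtCoh.pull (h ≫ g)).obj F) ((EtCoh.bc (h ≫ g)).obj V)}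
    {ι : Type u} {c : ((EtCoh.bc (h ≫ g)).obj V).left → ι}
    {m : ι → EtCoh.sect F V} (H : Split (h ≫ g) F V t c m) :
    Split h ((EtCoh.pull g).obj F) ((EtCoh.bc g).obj V)
      (pcS h g ((EtCoh.pull h).obj ((EtCoh.pull g).obj F)) V
        (compS h g F ((EtCoh.bc (h ≫ g)).obj V) t))
      (fun y => c (compL h g V y)) (fun i => usec g F V (m i)) := by
  intro i U k hk
  have h1 : k.left ≫ ((EtCoh.bc h).obj ((EtCoh.bc g).obj V)).hom = U.hom := Over.w k.hom
  have hq1 : (k.left ≫ pr h ((EtCoh.bc g).obj V)) ≫ ((EtCoh.bc g).obj V).hom = U.hom ≫ h := by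
    rw [Category.assoc, pr_hom, ← Category.assoc, h1]
  have hq2 : ((k.left ≫ pr h ((EtCoh.bc g).obj V)) ≫ pr g V) ≫ V.hom = U.hom ≫ h ≫ g := by
    rw [Category.assoc, pr_hom, ← Category.assoc, hq1, Category.assoc]
  let k' : U ⟶ (EtCoh.bc (h ≫ g)).obj V := k ≫ (bcComp h g).hom.app V
  have hk' : k'.left = k.left ≫ compL h g V := rfl
  have e0 : k'.left ≫ pr (h ≫ g) V = (k.left ≫ pr h ((EtCoh.bc g).obj V)) ≫ pr g V := by
    rw [hk', Category.assoc, compL_pr, Category.assoc]
  -- left hand side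
  have e1 := pcS_apply h g ((EtCoh.pull h).obj ((EtCoh.pull g).obj F)) V
    (compS h g F ((EtCoh.bc (h ≫ g)).obj V) t)
  have e2 := map_map_apply ((EtCoh.pull h).obj ((EtCoh.pull g).obj F))
    ((bcComp h g).hom.app V) k (compS h g F ((EtCoh.bc (h ≫ g)).obj V) t)
  have e3 := compS_res h g F k' t
  have e4 := H i U k' (fun u => hk u)
  have e5 := map_usec (h ≫ g) F V k' _ hq2 e0 (m i)
  have e6 := compS_psq h g F (pr g V) (pr_hom g V) (k.left ≫ pr h ((EtCoh.bc g).obj V)) hq1 hq2 (m i)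
  -- right hand side
  have e7 := map_usec h ((EtCoh.pull g).obj F) ((EtCoh.bc g).obj V) k _ hq1 rfl (usec g F V (m i))
  have e8 := congrArg (psq h ((EtCoh.pull g).obj F) (k.left ≫ pr h ((EtCoh.bc g).obj V)) hq1)
    (psq_pr g F V (m i))
  refine Eq.trans (congrArg _ e1) ?_
  refine e2.trans (e3.trans ?_)
  refine (congrArg (compS h g F U) (e4.trans e5)).trans ?_
  exact e6.trans (e8.trans e7.symm)

variable [IsFinite h] [Flat h] [LocallyOfFinitePresentation h]
  [IsFinite g] [Flat g] [LocallyOfFinitePresentation g]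
  [IsFinite (h ≫ g)] [Flat (h ≫ g)] [LocallyOfFinitePresentation (h ≫ g)]

/-- compatibility of the trace with composition on a section over a quasi-compact `V`. -/
theorem evt_comp {F : EtCoh.Ab S} {V : S.Etale} [CompactSpace V.left]
    {t : EtCoh.sect ((EtCoh.pull (h ≫ g)).obj F) ((EtCoh.bc (h ≫ g)).obj V)}
    {τ : EtCoh.sect F V} (hr : Rel (h ≫ g) F V t τ) :
    evt g F V (evt h ((EtCoh.pull g).obj F) ((EtCoh.bc g).obj V)
      (pcS h g ((EtCoh.pull h).obj ((EtCoh.pull g).obj F)) V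
        (compS h g F ((EtCoh.bc (h ≫ g)).obj V) t))) = τ := by
  classical
  obtain ⟨ι, _, c, hc, m, h1, h2⟩ := hr
  -- the split section for `h`
  have h3 := split_comp h g h1
  have hc' : IsLocallyConstant (fun y => c (compL h g V y)) :=
    hc.comp_continuous (compL h g V).continuous
  have h4 := isSum_evt h hc' h3
  -- the rank function on `V ×_S Y`
  let d : ((EtCoh.bc g).obj V).left → (ι → ℕ) := fun y i =>
    rk (pr h ((EtCoh.bc g).obj V)) (fun y => c (compL h g V y)) hc' i y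
  have hd : IsLocallyConstant d := by
    rw [IsLocallyConstant.iff_eventually_eq]
    intro y
    have : ∀ i, ∀ᶠ z in nhds y, d z i = d y i := fun i =>
      (isLocallyConstant_rk (pr h ((EtCoh.bc g).obj V)) _ hc' i).eventually_eq y
    filter_upwards [Filter.eventually_all.2 this] with z hz
    exact funext hz
  have hcomp : CompactSpace ((EtCoh.bc g).obj V).left :=
    QuasiCompact.compactSpace_of_compactSpace (pr g V)
  have hfin : (Set.range d).Finite := hd.range_finite
  let κ : Type u := Set.range d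
  have : Fintype κ := hfin.fintype
  let d' : ((EtCoh.bc g).obj V).left → κ := Set.rangeFactorization d
  have hd' : IsLocallyConstant d' := by
    rw [IsLocallyConstant.iff_eventually_eq]
    intro y
    filter_upwards [hd.eventually_eq y] with z hz
    exact Subtype.ext hz
  let m' : κ → EtCoh.sect F V := fun k => ∑ i, k.1 i • m i
  have h5 : Split g F V (evt h ((EtCoh.pull g).obj F) ((EtCoh.bc g).obj V)
      (pcS h g ((EtCoh.pull h).obj ((EtCoh.pull g).obj F)) V
        (compS h g F ((EtCoh.bc (h ≫ g)).obj V) t))) d' m' := by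
    intro k U l hl
    by_cases hU : Nonempty U.left
    · have h6 := h4 U l k.1 hU (fun i u => by
        have h7 : d (l.left u) = k.1 := congrArg Subtype.val (hl u)
        exact congrFun h7 i)
      refine h6.trans ?_
      have h8 : usec g F V (m' k) = ∑ i, k.1 i • usec g F V (m i) := by
        rw [map_sum]
        exact Finset.sum_congr rfl fun i _ => map_nsmul _ _ _
      rw [h8, map_sum]
      exact Finset.sum_congr rfl fun i _ => (map_nsmul _ _ _).symm
    · apply Groth.Agent.Etbase.EtSite.sect_ext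
      intro x
      exact absurd ⟨x⟩ hU
  have h9 := isSum_evt g hd' h5
  refine isSum_ext g (h ≫ g) h9 h2 (fun v => ?_)
  have h10 : ∀ i, rk (pr (h ≫ g) V) c hc i v = ∑ k : κ, k.1 i * rk (pr g V) d' hd' k v := by
    intro i
    rw [← RankComp.rk_comp (pr h ((EtCoh.bc g).obj V)) (pr g V) (fun y => c (compL h g V y)) hc' i
      d' hd' (fun k => k.1 i) (fun y => rfl) v]
    exact (rk_baseChange (isPullback_compL h g V) c hc _ hc' (fun _ => rfl) i v).symm
  have h11 : ∀ k : κ, rk (pr g V) d' hd' k v • m' k =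
      ∑ i, (k.1 i * rk (pr g V) d' hd' k v) • m i := by
    intro k
    rw [Finset.smul_sum]
    exact Finset.sum_congr rfl fun i _ => by rw [smul_smul, mul_comm]
  rw [Finset.sum_congr rfl (fun k _ => h11 k), Finset.sum_comm]
  exact Finset.sum_congr rfl fun i _ => by rw [h10, Finset.sum_smul]

/-- (Var 3) for the trace. -/
theorem var3 (F : EtCoh.Ab S) :
    (tr (h ≫ g)).app F =
      (EtCoh.push (h ≫ g)).map ((EtCore.pullComp h g).hom.app F) ≫
        (EtCoh.pushComp g h).inv.app ((EtCoh.pull h).obj ((EtCoh.pull g).obj F)) ≫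
        (EtCoh.push g).map ((tr h).app ((EtCoh.pull g).obj F)) ≫ (tr g).app F := by
  refine var3_of_sections h g (EtCoh.pull h) (EtCoh.pull g) (EtCoh.pull (h ≫ g))
    (EtCore.pullComp h g) (tr h) (tr g) (tr (h ≫ g)) F
    (fun V t => CompactSpace V.left ∧ ∃ τ, Rel (h ≫ g) F V t τ) ?_
    (compS h g F) (compS_eq h g F) (pcS h g _) (pcS_eq h g _) ?_
  · intro G a b hab
    apply ext_rel (h ≫ g)
    intro V t τ hr
    apply Groth.Agent.Etbase.EtSite.sect_ext
    intro v
    obtain ⟨_, ⟨O, hO, rfl⟩, hv, -⟩ := V.left.isBasis_affineOpens.exists_subset_of_mem_open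
      (Set.mem_univ v) isOpen_univ
    refine ⟨openObj V O, openMap V O, ⟨v, hv⟩, rfl, ?_⟩
    have hcs : CompactSpace (openObj V O).left := isCompact_iff_compactSpace.1 hO.isCompact
    have h1 := hab (openObj V O) _ ⟨hcs, _, hr.comp (openMap V O)⟩
    have h2 := ConcreteCategory.congr_hom (a.hom.naturality (openMap V O).op) t
    have h3 := ConcreteCategory.congr_hom (b.hom.naturality (openMap V O).op) t
    exact h2.symm.trans (h1.trans h3)
  · rintro V t ⟨hV, τ, hr⟩
    have h1 := evt_comp h g hr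
    have h2 := evt_eq_of_rel (h ≫ g) hr
    exact h2.trans h1.symm

end

end Groth.Agent.Etdl.H427.RelComp
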