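import Groth.Agent.Etcore.IntBC
import Groth.Agent.Sga4B.TraceRel

/-!
# Comparison of iterated pullbacks on sections

Element-level formulas for the pullback of sections of abelian étale sheaves.
-/

set_option autoImplicit false
universe u
open CategoryTheory CategoryTheory.Limits AlgebraicGeometry Opposite

namespace Groth.Agent.Etdl.H427.SecCalc

open Groth.Agent.Etcore.SecPull Groth.Agent.Etcore.IntBC
open Groth.Agent.Sga4B.EtUnit Groth.Agent.Sga4B.UnitInj Groth.Agent.Sga4B.TraceRel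

variable {X Y S X' S' : Scheme.{u}}

/-! ### Abstract composition lemmas (kept abstract so that the kernel does not unfold functors) -/

section AbsCmp

variable {𝒮 𝒳 𝒮' : Type (u + 2)} [Category.{u + 1} 𝒮] [Category.{u + 1} 𝒳]
    [Category.{u + 1} 𝒮'] (Pf : 𝒮 ⥤ 𝒳) (Pg' : 𝒳 ⥤ EtCoh.Ab X') (Pgf Pfg : 𝒮 ⥤ EtCoh.Ab X')
    (Pg : 𝒮 ⥤ 𝒮') (Pf' : 𝒮' ⥤ EtCoh.Ab X') (α : Pgf ≅ Pf ⋙ Pg') (β : Pgf ≅ Pfg)
    (γ : Pfg ≅ Pg ⋙ Pf') (F : 𝒮)

/-- the abstract comparison map on sections -/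
noncomputable def absCmp (U : X'.Etale) :
    EtCoh.sect (Pg'.obj (Pf.obj F)) U →+ EtCoh.sect (Pf'.obj (Pg.obj F)) U :=
  ((α.inv.app F ≫ β.hom.app F ≫ γ.hom.app F).hom.app (op U)).hom

theorem absCmp_eq (U : X'.Etale)
    (x : EtCoh.sect (Pg'.obj (Pf.obj F)) U) (y : EtCoh.sect (Pgf.obj F) U)
    (y' : EtCoh.sect (Pfg.obj F) U) (z : EtCoh.sect (Pf'.obj (Pg.obj F)) U)
    (h1 : (α.inv.app F).hom.app (op U) x = y) (h2 : (β.hom.app F).hom.app (op U) y = y')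
    (h3 : (γ.hom.app F).hom.app (op U) y' = z) :
    absCmp Pf Pg' Pgf Pfg Pg Pf' α β γ F U x = z := by
  subst h1
  subst h2
  subst h3
  rfl

theorem absCmp_res {U U' : X'.Etale} (k : U' ⟶ U)
    (x : EtCoh.sect (Pg'.obj (Pf.obj F)) U) :
    (Pf'.obj (Pg.obj F)).obj.map k.op (absCmp Pf Pg' Pgf Pfg Pg Pf' α β γ F U x) =
      absCmp Pf Pg' Pgf Pfg Pg Pf' α β γ F U' ((Pg'.obj (Pf.obj F)).obj.map k.op x) :=
  (ConcreteCategory.congr_hom
    ((α.inv.app F ≫ β.hom.app F ≫ γ.hom.app F).hom.naturality k.op) x).symm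

end AbsCmp

theorem abs_inv {𝒮 𝒳 : Type (u + 2)} [Category.{u + 1} 𝒮] [Category.{u + 1} 𝒳]
    (Pf : 𝒮 ⥤ 𝒳) (Pg' : 𝒳 ⥤ EtCoh.Ab X') (Pgf : 𝒮 ⥤ EtCoh.Ab X') (α : Pgf ≅ Pf ⋙ Pg')
    (F : 𝒮) (U : X'.Etale)
    (x : EtCoh.sect (Pg'.obj (Pf.obj F)) U) (y : EtCoh.sect (Pgf.obj F) U)
    (h : (α.hom.app F).hom.app (op U) y = x) :
    (α.inv.app F).hom.app (op U) x = y := by
  subst h
  have h1 := congrArg (fun k => k.hom.app (op U)) (α.hom_inv_id_app F)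
  exact ConcreteCategory.congr_hom h1 y

/-! ### Pullback of sections along commutative squares -/

/-- Pullback of sections along a commutative square `q : W → V` over `g : T → S`, on elements. -/
noncomputable def psq {T S : Scheme.{u}} (g : T ⟶ S) (G : EtCoh.Ab S) {V : S.Etale} {W : T.Etale}
    (q : W.left ⟶ V.left) (hq : q ≫ V.hom = W.hom ≫ g) :
    EtCoh.sect G V →+ EtCoh.sect ((EtCoh.pull g).obj G) W :=
  (sq g G q hq).hom

theorem psq_apply {T S : Scheme.{u}} (g : T ⟶ S) (G : EtCoh.Ab S) {V : S.Etale} {W : T.Etale}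
    (q : W.left ⟶ V.left) (hq : q ≫ V.hom = W.hom ≫ g) (m : EtCoh.sect G V) :
    psq g G q hq m = sq g G q hq m := rfl

theorem psq_congr {T S : Scheme.{u}} (g : T ⟶ S) (G : EtCoh.Ab S) {V : S.Etale} {W : T.Etale}
    {q q' : W.left ⟶ V.left} (hq : q ≫ V.hom = W.hom ≫ g) (hq' : q' ≫ V.hom = W.hom ≫ g)
    (e : q = q') (m : EtCoh.sect G V) : psq g G q hq m = psq g G q' hq' m := by
  subst e
  rfl

theorem congr_psq {g g' : X ⟶ S} (e : g = g') (G : EtCoh.Ab S) {V : S.Etale} {W : X.Etale}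
    (q : W.left ⟶ V.left) (hq : q ≫ V.hom = W.hom ≫ g) (hq' : q ≫ V.hom = W.hom ≫ g')
    (m : EtCoh.sect G V) :
    ((EtCore.pullCongr e).hom.app G).hom.app (op W) (psq g G q hq m) = psq g' G q hq' m := by
  subst e
  rfl

theorem hom_psq (h : X' ⟶ X) (g : X ⟶ S) (G : EtCoh.Ab S)
    {V : S.Etale} {W : X.Etale} {W' : X'.Etale}
    (q : W.left ⟶ V.left) (hq : q ≫ V.hom = W.hom ≫ g)
    (q' : W'.left ⟶ W.left) (hq' : q' ≫ W.hom = W'.hom ≫ h)
    (hqq' : (q' ≫ q) ≫ V.hom = W'.hom ≫ h ≫ g) (m : EtCoh.sect G V) :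
    ((EtCore.pullComp h g).hom.app G).hom.app (op W') (psq (h ≫ g) G (q' ≫ q) hqq' m) =
      psq h ((EtCoh.pull g).obj G) q' hq' (psq g G q hq m) :=
  (ConcreteCategory.congr_hom (sq_comp h g G q hq q' hq' hqq') m).symm

theorem inv_psq (h : X' ⟶ X) (g : X ⟶ S) (G : EtCoh.Ab S)
    {V : S.Etale} {W : X.Etale} {W' : X'.Etale}
    (q : W.left ⟶ V.left) (hq : q ≫ V.hom = W.hom ≫ g)
    (q' : W'.left ⟶ W.left) (hq' : q' ≫ W.hom = W'.hom ≫ h)
    (hqq' : (q' ≫ q) ≫ V.hom = W'.hom ≫ h ≫ g) (m : EtCoh.sect G V) :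
    ((EtCore.pullComp h g).inv.app G).hom.app (op W')
      (psq h ((EtCoh.pull g).obj G) q' hq' (psq g G q hq m)) = psq (h ≫ g) G (q' ≫ q) hqq' m :=
  abs_inv (EtCoh.pull g) (EtCoh.pull h) (EtCoh.pull (h ≫ g)) (EtCore.pullComp h g) G W' _ _
    (hom_psq h g G q hq q' hq' hqq' m)

/-- the comparison morphism `g'⁻¹ f⁻¹ F ⟶ f'⁻¹ g⁻¹ F` of a commutative square, on sections -/
noncomputable def cmpS {f : X ⟶ S} {g : S' ⟶ S} {f' : X' ⟶ S'} {g' : X' ⟶ X}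
    (w : g' ≫ f = f' ≫ g) (F : EtCoh.Ab S) (U : X'.Etale) :
    EtCoh.sect ((EtCoh.pull g').obj ((EtCoh.pull f).obj F)) U →+
      EtCoh.sect ((EtCoh.pull f').obj ((EtCoh.pull g).obj F)) U :=
  absCmp (EtCoh.pull f) (EtCoh.pull g') (EtCoh.pull (g' ≫ f)) (EtCoh.pull (f' ≫ g))
    (EtCoh.pull g) (EtCoh.pull f') (EtCore.pullComp g' f) (EtCore.pullCongr w)
    (EtCore.pullComp f' g) F U

theorem cmpS_eq {f : X ⟶ S} {g : S' ⟶ S} {f' : X' ⟶ S'} {g' : X' ⟶ X}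
    (w : g' ≫ f = f' ≫ g) (F : EtCoh.Ab S) (U : X'.Etale) :
    cmpS w F U = absCmp (EtCoh.pull f) (EtCoh.pull g') (EtCoh.pull (g' ≫ f)) (EtCoh.pull (f' ≫ g))
    (EtCoh.pull g) (EtCoh.pull f') (EtCore.pullComp g' f) (EtCore.pullCongr w)
    (EtCore.pullComp f' g) F U := rfl

/-- the comparison morphism on pullbacks of sections -/
theorem cmpS_psq {f : X ⟶ S} {g : S' ⟶ S} {f' : X' ⟶ S'} {g' : X' ⟶ X}
    (w : g' ≫ f = f' ≫ g) (F : EtCoh.Ab S)
    {V : S.Etale} {W : X.Etale} {W2 : S'.Etale} {U : X'.Etale}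
    (q : W.left ⟶ V.left) (hq : q ≫ V.hom = W.hom ≫ f)
    (p : U.left ⟶ W.left) (hp : p ≫ W.hom = U.hom ≫ g')
    (q2 : W2.left ⟶ V.left) (hq2 : q2 ≫ V.hom = W2.hom ≫ g)
    (p2 : U.left ⟶ W2.left) (hp2 : p2 ≫ W2.hom = U.hom ≫ f')
    (e : p ≫ q = p2 ≫ q2) (m : EtCoh.sect F V) :
    cmpS w F U (psq g' ((EtCoh.pull f).obj F) p hp (psq f F q hq m)) =
      psq f' ((EtCoh.pull g).obj F) p2 hp2 (psq g F q2 hq2 m) := by
  have h1 : (p ≫ q) ≫ V.hom = U.hom ≫ g' ≫ f := by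
    rw [Category.assoc, hq, ← Category.assoc, hp, Category.assoc]
  have h2 : (p2 ≫ q2) ≫ V.hom = U.hom ≫ f' ≫ g := by
    rw [Category.assoc, hq2, ← Category.assoc, hp2, Category.assoc]
  have h3 : (p ≫ q) ≫ V.hom = U.hom ≫ f' ≫ g := by rw [e, h2]
  have H3 : ((EtCore.pullComp f' g).hom.app F).hom.app (op U) (psq (f' ≫ g) F (p ≫ q) h3 m) =
      psq f' ((EtCoh.pull g).obj F) p2 hp2 (psq g F q2 hq2 m) := by
    rw [psq_congr (f' ≫ g) F h3 h2 e m]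
    exact hom_psq f' g F q2 hq2 p2 hp2 h2 m
  exact (DFunLike.congr_fun (cmpS_eq w F U) _).trans
    (absCmp_eq (EtCoh.pull f) (EtCoh.pull g') (EtCoh.pull (g' ≫ f)) (EtCoh.pull (f' ≫ g))
      (EtCoh.pull g) (EtCoh.pull f') (EtCore.pullComp g' f) (EtCore.pullCongr w)
      (EtCore.pullComp f' g) F U _ _ _ _ (inv_psq g' f F q hq p hp h1 m)
      (congr_psq (W := U) w F (p ≫ q) h1 h3 m) H3)

/-- the comparison morphism commutes with restriction -/
theorem cmpS_res {f : X ⟶ S} {g : S' ⟶ S} {f' : X' ⟶ S'} {g' : X' ⟶ X}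
    (w : g' ≫ f = f' ≫ g) (F : EtCoh.Ab S) {U U' : X'.Etale} (k : U' ⟶ U)
    (x : EtCoh.sect ((EtCoh.pull g').obj ((EtCoh.pull f).obj F)) U) :
    ((EtCoh.pull f').obj ((EtCoh.pull g).obj F)).obj.map k.op (cmpS w F U x) =
      cmpS w F U' (((EtCoh.pull g').obj ((EtCoh.pull f).obj F)).obj.map k.op x) :=
  (congrArg (((EtCoh.pull f').obj ((EtCoh.pull g).obj F)).obj.map k.op)
    (DFunLike.congr_fun (cmpS_eq w F U) x)).trans
  ((absCmp_res (EtCoh.pull f) (EtCoh.pull g') (EtCoh.pull (g' ≫ f)) (EtCoh.pull (f' ≫ g))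
    (EtCoh.pull g) (EtCoh.pull f') (EtCore.pullComp g' f) (EtCore.pullCongr w)
    (EtCore.pullComp f' g) F k x).trans (DFunLike.congr_fun (cmpS_eq w F U') _).symm)

theorem psq_precomp {T S : Scheme.{u}} (g : T ⟶ S) (G : EtCoh.Ab S)
    {V : S.Etale} {W W' : T.Etale} (q : W.left ⟶ V.left) (hq : q ≫ V.hom = W.hom ≫ g)
    (r : W' ⟶ W) (q' : W'.left ⟶ V.left) (hq' : q' ≫ V.hom = W'.hom ≫ g) (e : r.left ≫ q = q')
    (m : EtCoh.sect G V) :
    ((EtCoh.pull g).obj G).obj.map r.op (psq g G q hq m) = psq g G q' hq' m := by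
  subst e
  exact ConcreteCategory.congr_hom (sq_precomp g G q hq r hq') m

theorem psq_postcomp {T S : Scheme.{u}} (g : T ⟶ S) (G : EtCoh.Ab S)
    {V V' : S.Etale} {W : T.Etale} (q : W.left ⟶ V.left) (hq : q ≫ V.hom = W.hom ≫ g) (r : V ⟶ V')
    (q' : W.left ⟶ V'.left) (hq' : q' ≫ V'.hom = W.hom ≫ g) (e : q ≫ r.left = q')
    (m : EtCoh.sect G V') :
    psq g G q hq (G.obj.map r.op m) = psq g G q' hq' m := by
  subst e
  exact ConcreteCategory.congr_hom (sq_postcomp g G q hq r hq') m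

theorem psq_naturality {T S : Scheme.{u}} (g : T ⟶ S) {G G' : EtCoh.Ab S} (φ : G ⟶ G')
    {V : S.Etale} {W : T.Etale} (q : W.left ⟶ V.left) (hq : q ≫ V.hom = W.hom ≫ g)
    (m : EtCoh.sect G V) :
    ((EtCoh.pull g).map φ).hom.app (op W) (psq g G q hq m) =
      psq g G' q hq (φ.hom.app (op V) m) :=
  (ConcreteCategory.congr_hom (sq_naturality g φ q hq) m).symm

theorem pr_hom (f : X ⟶ S) (V : S.Etale) :
    pr f V ≫ V.hom = ((EtCoh.bc f).obj V).hom ≫ f := (isPullback_pr f V).w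

/-- unit sections are pullbacks of sections along the projection -/
theorem psq_pr (f : X ⟶ S) (F : EtCoh.Ab S) (V : S.Etale) (m : EtCoh.sect F V) :
    psq f F (pr f V) (pr_hom f V) m = usec f F V m := by
  have h : liftBC f (pr f V) (pr_hom f V) = 𝟙 ((EtCoh.bc f).obj V) := by
    apply ext_toFst
    rw [toFst_liftBC]
    exact (Category.id_comp _).symm
  have h2 : sq f F (pr f V) (pr_hom f V) = unitApp f F V := by
    change secPull f F (liftBC f (pr f V) (pr_hom f V)) = unitApp f F V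
    rw [h, secPull_id]
  exact ConcreteCategory.congr_hom h2 m

theorem map_usec (f : X ⟶ S) (F : EtCoh.Ab S) (V : S.Etale) {W : X.Etale}
    (k : W ⟶ (EtCoh.bc f).obj V) (q : W.left ⟶ V.left) (hq : q ≫ V.hom = W.hom ≫ f)
    (e : k.left ≫ pr f V = q) (m : EtCoh.sect F V) :
    ((EtCoh.pull f).obj F).obj.map k.op (usec f F V m) = psq f F q hq m := by
  rw [← psq_pr]
  exact psq_precomp f F _ _ k q hq e m

/-- if two sections agree on an open `O` and `q` lands in `O` then their pullbacks along `q`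
agree. -/
theorem psq_congr_open {T S : Scheme.{u}} (g : T ⟶ S) (G : EtCoh.Ab S)
    {V : S.Etale} {W : T.Etale} (q : W.left ⟶ V.left) (hq : q ≫ V.hom = W.hom ≫ g)
    (O : V.left.Opens) (hO : ∀ w : W.left, q w ∈ O) (s s' : EtCoh.sect G V)
    (h : G.obj.map (openMap V O).op s = G.obj.map (openMap V O).op s') :
    psq g G q hq s = psq g G q hq s' := by
  have hr : Set.range q ⊆ Set.range (Scheme.Opens.ι O) := by
    rw [Scheme.Opens.range_ι]
    rintro _ ⟨w, rfl⟩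
    exact hO w
  let q1 := IsOpenImmersion.lift (Scheme.Opens.ι O) q hr
  have h3 : q1 ≫ (Scheme.Opens.ι O) = q := IsOpenImmersion.lift_fac (Scheme.Opens.ι O) q hr
  let q0 : W.left ⟶ (openObj V O).left := q1
  have h0 : q0 ≫ (openMap V O).left = q := h3
  have h1 : q0 ≫ (openObj V O).hom = W.hom ≫ g := by
    have : (openObj V O).hom = (openMap V O).left ≫ V.hom := rfl
    rw [this, ← Category.assoc, h0, hq]
  rw [← psq_postcomp g G q0 h1 (openMap V O) q hq h0 s,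
    ← psq_postcomp g G q0 h1 (openMap V O) q hq h0 s', h]

/-- degree zero base change on sections -/
theorem baseChange0_psq (f : X ⟶ S) (g : S' ⟶ S) (f' : X' ⟶ S') (g' : X' ⟶ X)
    (w : g' ≫ f = f' ≫ g) (K : EtCoh.Ab X) {V : S.Etale} {W : S'.Etale} (q : W.left ⟶ V.left)
    (hq : q ≫ V.hom = W.hom ≫ g) (t : EtCoh.sect K ((EtCoh.bc f).obj V)) :
    (EtCoh.baseChange0 f g f' g' w K).hom.app (op W) (psq g ((EtCoh.push f).obj K) q hq t) =
      psq g' K (V := (EtCoh.bc f).obj V) (W := (EtCoh.bc f').obj W)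
        (bcSq f g f' g' w q hq) (bcSq_hom f g f' g' w q hq) t :=
  ConcreteCategory.congr_hom (baseChange0_sq f g f' g' w K q hq) t

theorem bcSq_pr (f : X ⟶ S) (g : S' ⟶ S) (f' : X' ⟶ S') (g' : X' ⟶ X)
    (w : g' ≫ f = f' ≫ g) {V : S.Etale} {W : S'.Etale} (q : W.left ⟶ V.left)
    (hq : q ≫ V.hom = W.hom ≫ g) :
    bcSq f g f' g' w q hq ≫ pr f V = pr f' W ≫ q := bcSq_fst f g f' g' w q hq

/-- `(W ×_{S'} X') → (V ×_S X)` is cartesian over `W → V` for a cartesian square. -/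
theorem isPullback_bcSq (f : X ⟶ S) (g : S' ⟶ S) (f' : X' ⟶ S') (g' : X' ⟶ X)
    (hc : IsPullback g' f' f g) {V : S.Etale} {W : S'.Etale} (q : W.left ⟶ V.left)
    (hq : q ≫ V.hom = W.hom ≫ g) :
    IsPullback (bcSq f g f' g' hc.w q hq) (pr f' W) (pr f V) q := by
  have h1 : IsPullback (((EtCoh.bc f').obj W).hom ≫ g') (pr f' W) f (W.hom ≫ g) :=
    (isPullback_pr f' W).flip.paste_horiz hc
  refine IsPullback.of_right (h₁₂ := ((EtCoh.bc f).obj V).hom) (v₁₃ := f) (h₂₂ := V.hom) ?_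
    (bcSq_pr f g f' g' hc.w q hq) (isPullback_pr f V).flip
  rw [hq, bcSq_hom]
  exact h1

end Groth.Agent.Etdl.H427.SecCalc
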