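import Groth.Agent.Sga4B.RefineInt
import Groth.Agent.Etdl.H427.AbsVar
import Groth.Agent.Etdl.H427.RankComp

/-!
# The trace of a finite flat morphism on split sections
-/

set_option autoImplicit false
universe u
open CategoryTheory CategoryTheory.Limits AlgebraicGeometry Opposite

namespace Groth.Agent.Etdl.H427.TraceEval

open Groth.Agent.Sga4B.EtUnit Groth.Agent.Sga4B.UnitInj Groth.Agent.Sga4B.TraceRel
open Groth.Agent.Sga4B.ClopenRank Groth.Agent.Sga4B.TraceMap
open SecCalc AbsVar

variable {X S : Scheme.{u}} (f : X ⟶ S)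

theorem locSplit [IsFinite f] : LocSplit f := by
  apply Groth.Agent.Sga4B.LocSplit.locSplit
  intro V
  have : IsFinite (pr f V) :=
    MorphismProperty.of_isPullback (P := @IsFinite) (isPullback_pr f V).flip inferInstance
  exact Groth.Agent.Sga4B.RefineInt.refine_of_isIntegralHom _

variable [IsFinite f] [Flat f] [LocallyOfFinitePresentation f]

/-- the trace of a finite flat morphism -/
noncomputable def tr : EtCoh.pull f ⋙ EtCoh.push f ⟶ 𝟭 (EtCoh.Ab S) := trace f (locSplit f)

/-- the trace on sections -/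
noncomputable abbrev evt (F : EtCoh.Ab S) (V : S.Etale) :
    EtCoh.sect ((EtCoh.pull f).obj F) ((EtCoh.bc f).obj V) →+ EtCoh.sect F V :=
  ev f (EtCoh.pull f) (tr f) F V

theorem evt_eq_of_rel {F : EtCoh.Ab S} {V : S.Etale}
    {t : EtCoh.sect ((EtCoh.pull f).obj F) ((EtCoh.bc f).obj V)} {τ : EtCoh.sect F V}
    (h : Rel f F V t τ) : evt f F V t = τ := by
  have h1 := relFst_traceApp f (locSplit f) F
  have h2 := congrArg (fun k => k.app (op V) (⟨(t, τ), h⟩ : relSubgroup f F V)) h1
  exact h2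

/-- morphisms out of `f_* f⁻¹ F` are determined on sections which have a trace -/
theorem ext_rel {F G : EtCoh.Ab S} {a b : (EtCoh.push f).obj ((EtCoh.pull f).obj F) ⟶ G}
    (h : ∀ (V : S.Etale) (t : EtCoh.sect ((EtCoh.pull f).obj F) ((EtCoh.bc f).obj V))
      (τ : EtCoh.sect F V), Rel f F V t τ → a.hom.app (op V) t = b.hom.app (op V) t) : a = b := by
  apply hom_ext f (locSplit f)
  ext V x
  exact h V.unop x.1.1 x.1.2 x.2

/-- the trace of a split section is the weighted sum of the sections. -/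
theorem isSum_evt {F : EtCoh.Ab S} {V : S.Etale}
    {t : EtCoh.sect ((EtCoh.pull f).obj F) ((EtCoh.bc f).obj V)}
    {ι : Type u} [Fintype ι] {c : ((EtCoh.bc f).obj V).left → ι} (hc : IsLocallyConstant c)
    {m : ι → EtCoh.sect F V} (h : Split f F V t c m) :
    IsSum f F V (evt f F V t) c hc m := by
  intro V' g r hne hr
  rw [ev_res]
  refine (evt_eq_of_rel f ?_)
  refine ⟨ι, inferInstance, _, isLocallyConstant_comp g hc, _, h.comp g, ?_⟩
  intro V'' g' r' hne hr'
  obtain ⟨w⟩ := hne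
  have e : r' = r := by
    funext i
    rw [← hr' i w, rk_comp g hc, hr]
  rw [map_sum, e]
  exact Finset.sum_congr rfl fun i _ => map_nsmul _ _ _

/-- two weighted sums agree if the ranks and the sections agree. -/
theorem isSum_ext {Y : Scheme.{u}} (h : Y ⟶ S) [IsFinite h] [Flat h] [LocallyOfFinitePresentation h]
    {F : EtCoh.Ab S} {V : S.Etale} {τ τ' : EtCoh.sect F V}
    {ι κ : Type u} [Fintype ι] [Fintype κ] {c : ((EtCoh.bc f).obj V).left → ι}
    {hc : IsLocallyConstant c} {m : ι → EtCoh.sect F V}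
    {d : ((EtCoh.bc h).obj V).left → κ} {hd : IsLocallyConstant d} {m' : κ → EtCoh.sect F V}
    (h1 : IsSum f F V τ c hc m) (h2 : IsSum h F V τ' d hd m')
    (H : ∀ v : V.left, ∑ i, rk (pr f V) c hc i v • m i = ∑ k, rk (pr h V) d hd k v • m' k) :
    τ = τ' := by
  apply Groth.Agent.Etbase.EtSite.sect_ext
  intro v
  obtain ⟨V1, g1, v1, hv1, hr1⟩ := exists_const_rk (f := f) V c hc v
  have hd1 := isLocallyConstant_comp g1 hd
  obtain ⟨V2, g2, v2, hv2, hr2⟩ := exists_const_rk (f := h) V1 _ hd1 v1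
  refine ⟨V2, g2 ≫ g1, v2, ?_, ?_⟩
  · change g1.left (g2.left v2) = v
    rw [hv2, hv1]
  · rw [h1 V2 (g2 ≫ g1) (fun i => rk (pr f V) c hc i v) ⟨v2⟩ (fun i w => hr1 i (g2.left w)),
      h2 V2 (g2 ≫ g1) (fun k => rk (pr h V) d hd k v) ⟨v2⟩ (fun k w => by
        have e1 := hr2 k w
        rw [rk_comp g1 hd, rk_comp g1 hd, hv1] at e1
        exact e1)]
    have e2 := congrArg (F.obj.map (g2 ≫ g1).op) (H v)
    rw [map_sum, map_sum] at e2
    simpa only [map_nsmul] using e2

end Groth.Agent.Etdl.H427.TraceEval
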