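import Groth.Agent.Etdl.H427.RelComp

/-!
# Uniqueness of the trace
-/

set_option autoImplicit false
universe u
set_option linter.unusedSectionVars false
open CategoryTheory CategoryTheory.Limits AlgebraicGeometry Opposite

namespace Groth.Agent.Etdl.H427.Uniq

open Groth.Agent.Sga4B.EtUnit Groth.Agent.Sga4B.UnitInj Groth.Agent.Sga4B.TraceRel
open Groth.Agent.Sga4B.ClopenRank Groth.Agent.Sga4B.TraceMap
open Groth.Agent.Etcore.IntBC Groth.Agent.Etcore.SecPull
open SecCalc AbsVar TraceEval RelBC RelComp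

theorem pcS_compS_usec {X Y S : Scheme.{u}} (h : X ⟶ Y) (g : Y ⟶ S) (F : EtCoh.Ab S)
    (V : S.Etale) (m : EtCoh.sect F V) :
    pcS h g ((EtCoh.pull h).obj ((EtCoh.pull g).obj F)) V
      (compS h g F ((EtCoh.bc (h ≫ g)).obj V) (usec (h ≫ g) F V m)) =
    usec h ((EtCoh.pull g).obj F) ((EtCoh.bc g).obj V) (usec g F V m) := by
  have h1 : Split (h ≫ g) F V (usec (h ≫ g) F V m)
      (fun _ => (PUnit.unit : PUnit.{u + 1})) (fun _ => m) := fun i U k hk => rfl
  have h2 := split_comp h g h1 PUnit.unit _ (𝟙 _) (fun _ => rfl)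
  rw [op_id, CategoryTheory.Functor.map_id] at h2
  exact h2

theorem bcSec_usec {X S X' S' : Scheme.{u}} {f : X ⟶ S} {g : S' ⟶ S} {f' : X' ⟶ S'} {g' : X' ⟶ X}
    (w : g' ≫ f = f' ≫ g) (F : EtCoh.Ab S) {V : S.Etale} {W : S'.Etale}
    (q : W.left ⟶ V.left) (hq : q ≫ V.hom = W.hom ≫ g) (m : EtCoh.sect F V) :
    bcSec w F q hq (usec f F V m) = usec f' ((EtCoh.pull g).obj F) W (psq g F q hq m) := by
  have h1 : Split f F V (usec f F V m)
      (fun _ => (PUnit.unit : PUnit.{u + 1})) (fun _ => m) := fun i U k hk => rfl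
  have h2 := split_baseChange w q hq (IsLocallyConstant.const _) h1 PUnit.unit _ (𝟙 _)
    (fun _ => rfl)
  rw [op_id, CategoryTheory.Functor.map_id] at h2
  exact h2

theorem sect_eq_of_isEmpty {X : Scheme.{u}} (F : EtCoh.Ab X) (U : X.Etale) (hU : IsEmpty U.left)
    (s t : EtCoh.sect F U) : s = t := by
  apply Groth.Agent.Etbase.EtSite.sect_ext
  intro x
  exact (hU.false x).elim

section

variable (T : ∀ ⦃X S : Scheme.{u}⦄ (f : X ⟶ S) [IsFinite f] [Flat f]
    [LocallyOfFinitePresentation f], EtCoh.pull f ⋙ EtCoh.push f ⟶ 𝟭 (EtCoh.Ab S))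
  (H2 : ∀ ⦃X S X' S' : Scheme.{u}⦄ (f : X ⟶ S) (g : S' ⟶ S) (f' : X' ⟶ S') (g' : X' ⟶ X)
          (hc : IsPullback g' f' f g)
          [IsFinite f] [Flat f] [LocallyOfFinitePresentation f]
          [IsFinite f'] [Flat f'] [LocallyOfFinitePresentation f'] (F : EtCoh.Ab S),
        EtCoh.baseChange0 f g f' g' hc.w ((EtCoh.pull f).obj F) ≫
          (EtCoh.push f').map ((EtCore.pullComp g' f).inv.app F ≫ (EtCore.pullCongr hc.w).hom.app F ≫
            (EtCore.pullComp f' g).hom.app F) ≫ (T f').app ((EtCoh.pull g).obj F) =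
          (EtCoh.pull g).map ((T f).app F))
  (H3 : ∀ ⦃X Y S : Scheme.{u}⦄ (h : X ⟶ Y) (g : Y ⟶ S)
          [IsFinite h] [Flat h] [LocallyOfFinitePresentation h]
          [IsFinite g] [Flat g] [LocallyOfFinitePresentation g]
          [IsFinite (h ≫ g)] [Flat (h ≫ g)] [LocallyOfFinitePresentation (h ≫ g)] (F : EtCoh.Ab S),
        (T (h ≫ g)).app F =
          (EtCoh.push (h ≫ g)).map ((EtCore.pullComp h g).hom.app F) ≫
            (EtCoh.pushComp g h).inv.app ((EtCoh.pull h).obj ((EtCoh.pull g).obj F)) ≫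
            (EtCoh.push g).map ((T h).app ((EtCoh.pull g).obj F)) ≫ (T g).app F)
  (H4 : ∀ ⦃X S : Scheme.{u}⦄ (f : X ⟶ S) [IsFinite f] [Flat f] [LocallyOfFinitePresentation f]
          (n : ℕ) (hn : ∀ s : S, f.finrank s = n) (F : EtCoh.Ab S),
        (EtCoh.pullPushAdj f).unit.app F ≫ (T f).app F = n • 𝟙 F)

/-- evaluation of the family on sections -/
noncomputable abbrev evT {X S : Scheme.{u}} (f : X ⟶ S) [IsFinite f] [Flat f]
    [LocallyOfFinitePresentation f] (F : EtCoh.Ab S) (V : S.Etale) :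
    EtCoh.sect ((EtCoh.pull f).obj F) ((EtCoh.bc f).obj V) →+ EtCoh.sect F V :=
  ev f (EtCoh.pull f) (T f) F V

include H2 in
theorem s2 {X S X' S' : Scheme.{u}} (f : X ⟶ S) (g : S' ⟶ S) (f' : X' ⟶ S') (g' : X' ⟶ X)
    (hc : IsPullback g' f' f g)
    [IsFinite f] [Flat f] [LocallyOfFinitePresentation f]
    [IsFinite f'] [Flat f'] [LocallyOfFinitePresentation f'] (F : EtCoh.Ab S)
    {V : S.Etale} {W : S'.Etale} (q : W.left ⟶ V.left) (hq : q ≫ V.hom = W.hom ≫ g)
    (t : EtCoh.sect ((EtCoh.pull f).obj F) ((EtCoh.bc f).obj V)) :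
    evT T f' ((EtCoh.pull g).obj F) W (bcSec hc.w F q hq t) = psq g F q hq (evT T f F V t) := by
  have h1 := sections_of_var2 f f' (EtCoh.pull f) (EtCoh.pull g) (EtCoh.pull f') (EtCoh.pull g')
    (EtCoh.pull (g' ≫ f)) (EtCoh.pull (f' ≫ g)) (EtCore.pullComp g' f) (EtCore.pullCongr hc.w)
    (EtCore.pullComp f' g) (T f) (T f') F
    (EtCoh.baseChange0 f g f' g' hc.w ((EtCoh.pull f).obj F)) (cmpS hc.w F) (cmpS_eq hc.w F)
    (H2 f g f' g' hc F) W (psq g ((EtCoh.push f).obj ((EtCoh.pull f).obj F)) q hq t)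
  have h2 := baseChange0_psq f g f' g' hc.w ((EtCoh.pull f).obj F) q hq t
  have h3 := congrArg (fun x => evT T f' ((EtCoh.pull g).obj F) W
    (cmpS hc.w F ((EtCoh.bc f').obj W) x)) h2
  have h4 := psq_naturality g ((T f).app F) q hq t
  exact h3.symm.trans (h1.trans h4)

include H3 in
theorem s3 {X Y S : Scheme.{u}} (h : X ⟶ Y) (g : Y ⟶ S)
    [IsFinite h] [Flat h] [LocallyOfFinitePresentation h]
    [IsFinite g] [Flat g] [LocallyOfFinitePresentation g]
    [IsFinite (h ≫ g)] [Flat (h ≫ g)] [LocallyOfFinitePresentation (h ≫ g)] (F : EtCoh.Ab S)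
    (V : S.Etale) (m : EtCoh.sect F V) :
    evT T (h ≫ g) F V (usec (h ≫ g) F V m) =
      evT T g F V (evT T h ((EtCoh.pull g).obj F) ((EtCoh.bc g).obj V)
        (usec h ((EtCoh.pull g).obj F) ((EtCoh.bc g).obj V) (usec g F V m))) := by
  have h1 := sections_of_var3 h g (EtCoh.pull h) (EtCoh.pull g) (EtCoh.pull (h ≫ g))
    (EtCore.pullComp h g) (T h) (T g) (T (h ≫ g)) F (compS h g F) (compS_eq h g F)
    (pcS h g _) (pcS_eq h g _) (H3 h g F) V (usec (h ≫ g) F V m)
  refine h1.trans ?_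
  exact congrArg (fun x => evT T g F V (evT T h ((EtCoh.pull g).obj F) ((EtCoh.bc g).obj V) x))
    (pcS_compS_usec h g F V m)

include H4 in
theorem s4 {X S : Scheme.{u}} (f : X ⟶ S) [IsFinite f] [Flat f] [LocallyOfFinitePresentation f]
    (n : ℕ) (hn : ∀ s : S, f.finrank s = n) (F : EtCoh.Ab S) (V : S.Etale)
    (m : EtCoh.sect F V) : evT T f F V (usec f F V m) = n • m :=
  sections_of_var4 f (EtCoh.pull f) (EtCoh.pullPushAdj f) (T f) F n (usec f) (fun _ _ => rfl)
    (H4 f n hn F) V m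

theorem evT_res {X S : Scheme.{u}} (f : X ⟶ S) [IsFinite f] [Flat f]
    [LocallyOfFinitePresentation f] (F : EtCoh.Ab S) {V V' : S.Etale} (g : V' ⟶ V)
    (t : EtCoh.sect ((EtCoh.pull f).obj F) ((EtCoh.bc f).obj V)) :
    F.obj.map g.op (evT T f F V t) =
      evT T f F V' (((EtCoh.pull f).obj F).obj.map ((EtCoh.bc f).map g).op t) :=
  ev_res f (EtCoh.pull f) (T f) F g t

/-- injectivity of the unit for surjective projections -/
theorem usec_injective {X S : Scheme.{u}} (f : X ⟶ S) (F : EtCoh.Ab S) (V : S.Etale)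
    (hs : Function.Surjective (pr f V)) : Function.Injective (usec f F V) := by
  rw [injective_iff_map_eq_zero]
  intro m hm
  refine usec_eq_zero f F V m ((EtCoh.bc f).obj V) (𝟙 _) (fun v => ?_) ?_
  · obtain ⟨u, hu⟩ := hs v
    exact ⟨u, hu⟩
  · rw [hm, map_zero]

include H2 H4 in
/-- the trace of a monomorphism on an étale scheme lying over its image -/
theorem u1b {P Y : Scheme.{u}} (h : P ⟶ Y) [Mono h] [IsFinite h] [Flat h]
    [LocallyOfFinitePresentation h] (F : EtCoh.Ab Y) (W : Y.Etale)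
    (hs : Function.Surjective (pr h W)) (n : EtCoh.sect F W) :
    evT T h F W (usec h F W n) = n := by
  have hc : IsPullback (𝟙 P) (𝟙 P) h h := IsKernelPair.id_of_mono h
  apply usec_injective h F W hs
  have h1 := s2 T H2 h h (𝟙 P) (𝟙 P) hc F (pr h W) (pr_hom h W) (usec h F W n)
  have h2 := bcSec_usec hc.w F (pr h W) (pr_hom h W) n
  have h3 := s4 T H4 (𝟙 P) 1 (fun s => by rw [Scheme.Hom.finrank_eq_one_of_isIso]; rfl)
    ((EtCoh.pull h).obj F) ((EtCoh.bc h).obj W) (psq h F (pr h W) (pr_hom h W) n)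
  rw [h2, h3, one_smul, psq_pr, psq_pr] at h1
  exact h1.symm

include H2 H4 in
theorem u1_in {P Y : Scheme.{u}} (h : P ⟶ Y) [Mono h] [IsFinite h] [Flat h]
    [LocallyOfFinitePresentation h] (F : EtCoh.Ab Y) (W : Y.Etale) (n : EtCoh.sect F W)
    {U : Y.Etale} (k : U ⟶ W) (hU : ∀ u : U.left, ∃ p : P, h p = U.hom u) :
    F.obj.map k.op (evT T h F W (usec h F W n)) = F.obj.map k.op n := by
  rw [evT_res, usec_map]
  apply u1b T H2 H4 h F U
  intro u
  obtain ⟨p, hp⟩ := hU u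
  obtain ⟨z, hz, -⟩ := Scheme.Pullback.exists_preimage_pullback (f := U.hom) (g := h) u p hp.symm
  exact ⟨z, hz⟩

theorem u1_out {P Y : Scheme.{u}} (h : P ⟶ Y) [IsFinite h] [Flat h]
    [LocallyOfFinitePresentation h] (F : EtCoh.Ab Y) (W : Y.Etale) (n : EtCoh.sect F W)
    {U : Y.Etale} (k : U ⟶ W) (hU : ∀ (u : U.left) (p : P), h p ≠ U.hom u) :
    F.obj.map k.op (evT T h F W (usec h F W n)) = 0 := by
  rw [evT_res, usec_map]
  have hE : IsEmpty ((EtCoh.bc h).obj U).left := by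
    constructor
    intro x
    apply hU (pr h U x) (((EtCoh.bc h).obj U).hom x)
    rw [← Scheme.Hom.comp_apply, ← Scheme.Hom.comp_apply, pr_hom]
  rw [sect_eq_of_isEmpty _ _ hE (usec h F U (F.obj.map k.op n)) 0, map_zero]

include H2 H3 H4 in
theorem u2 {X S : Scheme.{u}} (f : X ⟶ S) [IsFinite f] [Flat f]
    [LocallyOfFinitePresentation f] {ι : Type u} [Fintype ι] (c : X → ι)
    (hc : IsLocallyConstant c) (r : ι → ℕ) (hr : ∀ i s, rk f c hc i s = r i)
    (F : EtCoh.Ab S) (V : S.Etale)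
    (t : EtCoh.sect ((EtCoh.pull f).obj F) ((EtCoh.bc f).obj V)) (m : ι → EtCoh.sect F V)
    (hs : Split f F V t (fun y => c (((EtCoh.bc f).obj V).hom y)) m) :
    evT T f F V t = ∑ i, r i • m i := by
  classical
  let s : ι → EtCoh.sect ((EtCoh.pull f).obj F) ((EtCoh.bc f).obj V) := fun i =>
    evT T (piece c hc i).ι ((EtCoh.pull f).obj F) ((EtCoh.bc f).obj V)
      (usec (piece c hc i).ι ((EtCoh.pull f).obj F) ((EtCoh.bc f).obj V) (usec f F V (m i)))
  have e2 : ∀ i, evT T f F V (s i) = r i • m i := by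
    intro i
    have h3 := s3 T H3 (piece c hc i).ι f F V (m i)
    have h4 := s4 T H4 ((piece c hc i).ι ≫ f) (r i) (fun s => hr i s) F V (m i)
    exact h3.symm.trans h4
  have e1 : t = ∑ i, s i := by
    apply Groth.Agent.Etbase.EtSite.sect_ext
    intro y
    let i0 := c (((EtCoh.bc f).obj V).hom y)
    let O : ((EtCoh.bc f).obj V).left.Opens := ((EtCoh.bc f).obj V).hom ⁻¹ᵁ (piece c hc i0)
    let U : X.Etale := openObj ((EtCoh.bc f).obj V) O
    let k : U ⟶ (EtCoh.bc f).obj V := openMap ((EtCoh.bc f).obj V) O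
    have hUm : ∀ u : U.left, U.hom u ∈ piece c hc i0 := fun u => u.2
    refine ⟨U, k, ⟨y, rfl⟩, rfl, ?_⟩
    rw [hs i0 U k (fun u => hUm u), map_sum, Finset.sum_eq_single i0]
    · symm
      apply u1_in T H2 H4 (piece c hc i0).ι ((EtCoh.pull f).obj F) ((EtCoh.bc f).obj V)
        (usec f F V (m i0)) k
      intro u
      exact ⟨⟨U.hom u, hUm u⟩, rfl⟩
    · intro i _ hi
      apply u1_out T (piece c hc i).ι ((EtCoh.pull f).obj F) ((EtCoh.bc f).obj V)
        (usec f F V (m i)) k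
      intro u p hp
      apply hi
      have h1 : c ((piece c hc i).ι p) = i := p.2
      have h2 : c (U.hom u) = i0 := hUm u
      rw [← h1, ← h2, hp]
    · intro h
      exact absurd (Finset.mem_univ _) h
  rw [e1, map_sum]
  exact Finset.sum_congr rfl fun i _ => e2 i

end

end Groth.Agent.Etdl.H427.Uniq
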