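import Groth.Agent.Etdl.H427.Uniq

/-!
# Uniqueness of the trace: conclusion
-/

set_option autoImplicit false
universe u
set_option linter.unusedSectionVars false
open CategoryTheory CategoryTheory.Limits AlgebraicGeometry Opposite

namespace Groth.Agent.Etdl.H427.UniqMain

open Groth.Agent.Sga4B.EtUnit Groth.Agent.Sga4B.UnitInj Groth.Agent.Sga4B.TraceRel
open Groth.Agent.Sga4B.ClopenRank Groth.Agent.Sga4B.TraceMap
open Groth.Agent.Etcore.IntBC Groth.Agent.Etcore.SecPull
open SecCalc AbsVar TraceEval RelBC RelComp Uniq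

/-- pulling back sections along an étale morphism is injective on the étale scheme itself -/
theorem psq_injective_of_etale {U X : Scheme.{u}} (a : U ⟶ X) [Etale a] (F : EtCoh.Ab X)
    {V : X.Etale} {W : U.Etale} (q : W.left ⟶ V.left) (hq : q ≫ V.hom = W.hom ≫ a)
    (hiso : IsIso q) : Function.Injective (psq a F q hq) := by
  have h1 : IsIso (sq a F q hq) := sq_isIso_of_etale a F q hq hiso
  have h2 := (ConcreteCategory.bijective_of_isIso (sq a F q hq)).injective
  intro x y hxy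
  exact h2 hxy

theorem bcSq_self {X S : Scheme.{u}} (f : X ⟶ S) (V : S.Etale) (W : V.left.Etale)
    (w : ((EtCoh.bc f).obj V).hom ≫ f = pr f V ≫ V.hom)
    (q : W.left ⟶ V.left) (hqW : q = W.hom) (hq : q ≫ V.hom = W.hom ≫ V.hom) :
    bcSq f V.hom (pr f V) ((EtCoh.bc f).obj V).hom w q hq = ((EtCoh.bc (pr f V)).obj W).hom := by
  subst hqW
  apply (isPullback_pr f V).hom_ext
  · exact (bcSq_pr f V.hom (pr f V) ((EtCoh.bc f).obj V).hom w W.hom hq).trans (pr_hom (pr f V) W)
  · exact bcSq_hom f V.hom (pr f V) ((EtCoh.bc f).obj V).hom w W.hom hq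

section

variable (T : ∀ ⦃X S : Scheme.{u}⦄ (f : X ⟶ S) [IsFinite f] [Flat f]
    [LocallyOfFinitePresentation f], EtCoh.pull f ⋙ EtCoh.push f ⟶ 𝟭 (EtCoh.Ab S))
  (H2 : ∀ ⦃X S X' S' : Scheme.{u}⦄ (f : X ⟶ S) (g : S' ⟶ S) (f' : X' ⟶ S') (g' : X' ⟶ X)
          (hc : IsPullback g' f' f g)
          [IsFinite f] [Flat f] [LocallyOfFinitePresentation f]
          [IsFinite f'] [Flat f'] [LocallyOfFinitePresentation f'] (F : EtCoh.Ab S),
        EtCoh.baseChange0 f g f' g' hc.w ((EtCoh.pull f).obj F) ≫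
          (EtCoh.push f').map ((EtCore.pullComp g' f).inv.app F ≫ (EtCore.pullCongr hc.w).hom.app F ≫
            (EtCore.pullComp f' g).hom.app F) ≫ (T f').app ((EtCoh.pull g).obj F) =
          (EtCoh.pull g).map ((T f).app F))
  (H3 : ∀ ⦃X Y S : Scheme.{u}⦄ (h : X ⟶ Y) (g : Y ⟶ S)
          [IsFinite h] [Flat h] [LocallyOfFinitePresentation h]
          [IsFinite g] [Flat g] [LocallyOfFinitePresentation g]
          [IsFinite (h ≫ g)] [Flat (h ≫ g)] [LocallyOfFinitePresentation (h ≫ g)] (F : EtCoh.Ab S),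
        (T (h ≫ g)).app F =
          (EtCoh.push (h ≫ g)).map ((EtCore.pullComp h g).hom.app F) ≫
            (EtCoh.pushComp g h).inv.app ((EtCoh.pull h).obj ((EtCoh.pull g).obj F)) ≫
            (EtCoh.push g).map ((T h).app ((EtCoh.pull g).obj F)) ≫ (T g).app F)
  (H4 : ∀ ⦃X S : Scheme.{u}⦄ (f : X ⟶ S) [IsFinite f] [Flat f] [LocallyOfFinitePresentation f]
          (n : ℕ) (_ : ∀ s : S, f.finrank s = n) (F : EtCoh.Ab S),
        (EtCoh.pullPushAdj f).unit.app F ≫ (T f).app F = n • 𝟙 F)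

include H2 H3 H4

theorem u3 {X S : Scheme.{u}} (f : X ⟶ S) [IsFinite f] [Flat f]
    [LocallyOfFinitePresentation f] {ι : Type u} [Fintype ι]
    (F : EtCoh.Ab S) (V : S.Etale) (c : ((EtCoh.bc f).obj V).left → ι)
    (hc : IsLocallyConstant c) (r : ι → ℕ) (hr : ∀ i s, rk (pr f V) c hc i s = r i)
    (t : EtCoh.sect ((EtCoh.pull f).obj F) ((EtCoh.bc f).obj V)) (m : ι → EtCoh.sect F V)
    (hs : Split f F V t c m) :
    evT T f F V t = ∑ i, r i • m i := by
  have hV : Etale V.hom := V.prop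
  let W : (V.left).Etale := EtCoh.top V.left
  have hW : W.hom = 𝟙 V.left := rfl
  let q : W.left ⟶ V.left := 𝟙 V.left
  have hq : q ≫ V.hom = W.hom ≫ V.hom := rfl
  have hsq : IsPullback ((EtCoh.bc f).obj V).hom (pr f V) f V.hom := (isPullback_pr f V).flip
  have h1 := s2 T H2 f V.hom (pr f V) ((EtCoh.bc f).obj V).hom hsq F q hq t
  have h2 := split_baseChange hsq.w q hq hc hs
  have h3 : bcSq f V.hom (pr f V) ((EtCoh.bc f).obj V).hom hsq.w q hq =
      ((EtCoh.bc (pr f V)).obj W).hom := bcSq_self f V W hsq.w q rfl hq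
  have h5 : Split (pr f V) ((EtCoh.pull V.hom).obj F) W (bcSec hsq.w F q hq t)
      (fun y => c (((EtCoh.bc (pr f V)).obj W).hom y)) (fun i => psq V.hom F q hq (m i)) := by
    have h6 : (fun y => c (bcSq f V.hom (pr f V) ((EtCoh.bc f).obj V).hom hsq.w q hq y)) =
      (fun y => c (((EtCoh.bc (pr f V)).obj W).hom y)) :=
      funext fun y => congrArg (fun k : ((EtCoh.bc (pr f V)).obj W).left ⟶
        ((EtCoh.bc f).obj V).left => c (k y)) h3
    exact Eq.mp (congrArg (fun c' => Split (pr f V) ((EtCoh.pull V.hom).obj F) W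
      (bcSec hsq.w F q hq t) c' (fun i => psq V.hom F q hq (m i))) h6) h2
  have h7 := u2 T H2 H3 H4 (pr f V) c hc r hr ((EtCoh.pull V.hom).obj F) W _ _ h5
  apply psq_injective_of_etale V.hom F q hq (inferInstanceAs (IsIso (𝟙 V.left)))
  refine h1.symm.trans (h7.trans ?_)
  rw [map_sum]
  exact Finset.sum_congr rfl fun i _ => (map_nsmul _ _ _).symm

theorem u4 {X S : Scheme.{u}} (f : X ⟶ S) [IsFinite f] [Flat f]
    [LocallyOfFinitePresentation f] (F : EtCoh.Ab S) (V : S.Etale)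
    (t : EtCoh.sect ((EtCoh.pull f).obj F) ((EtCoh.bc f).obj V)) (τ : EtCoh.sect F V)
    (h : Rel f F V t τ) : evT T f F V t = τ := by
  obtain ⟨ι, _, c, hc, m, h1, h2⟩ := h
  apply Groth.Agent.Etbase.EtSite.sect_ext
  intro v
  obtain ⟨V', g, v', hv', hr⟩ := exists_const_rk (f := f) V c hc v
  refine ⟨V', g, v', hv', ?_⟩
  rw [evT_res, h2 V' g (fun i => rk (pr f V) c hc i v) ⟨v'⟩ hr]
  exact u3 T H2 H3 H4 f F V' _ (isLocallyConstant_comp g hc) _
    (fun i s => (rk_comp g hc i s).trans (hr i s)) _ _ (h1.comp g)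

theorem eq_tr {X S : Scheme.{u}} (f : X ⟶ S) [IsFinite f] [Flat f]
    [LocallyOfFinitePresentation f] : T f = tr f := by
  apply NatTrans.ext
  funext F
  apply ext_rel f
  intro V t τ h
  exact (u4 T H2 H3 H4 f F V t τ h).trans (evt_eq_of_rel f h).symm

end

end Groth.Agent.Etdl.H427.UniqMain
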